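import Cfsg.Agent.CyclicOdd.Base
import Cfsg.Agent.S0252
import Cfsg.Prelude.Def_Classical

/-!
Alternating groups with all odd Sylow subgroups cyclic.
-/

set_option autoImplicit false
set_option linter.style.haveILetI false

open Equiv

namespace Cfsg.Lib.CyclicOdd

theorem bad_alternating_six : Bad (alternatingGroup (Fin 6)) := by
  refine bad_of_pair (p := 3) Nat.prime_three (by norm_num)
    (x := ⟨swap (0 : Fin 6) 1 * swap 1 2, Equiv.Perm.mem_alternatingGroup.2 (by decide)⟩)
    (y := ⟨swap (3 : Fin 6) 4 * swap 4 5, Equiv.Perm.mem_alternatingGroup.2 (by decide)⟩) ?_ ?_ ?_ ?_ ?_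
  · exact Subtype.ext (show _ = _ by decide)
  · decide
  · decide
  · decide
  · decide

theorem bad_alternating {n : ℕ} (hn : 6 ≤ n) : Bad (alternatingGroup (Fin n)) := by
  classical
  let e : Fin 6 ≃ {i : Fin n // i ∈ Set.range (Fin.castLE hn)} :=
    Equiv.ofInjective (Fin.castLE hn) (Fin.castLE_injective hn)
  let f : alternatingGroup (Fin 6) →* alternatingGroup (Fin n) :=
    ((Equiv.Perm.extendDomainHom e).comp (alternatingGroup (Fin 6)).subtype).codRestrict _ fun s => by
      rw [Equiv.Perm.mem_alternatingGroup]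
      show Equiv.Perm.sign (Equiv.Perm.extendDomain (s : Equiv.Perm (Fin 6)) e) = 1
      rw [Equiv.Perm.sign_extendDomain]
      exact s.2
  refine bad_alternating_six.of_injective f fun s t h => ?_
  exact Subtype.ext (Equiv.Perm.extendDomainHom_injective e (congrArg Subtype.val h))

universe u

theorem alternating_cases {S : Type u} [Group S] [Finite S] (h : Cfsg.IsAlternating S) :
    (∃ (F : Type) (_ : Field F) (_ : Fintype F), CharP F 2 ∧
      Nonempty (S ≃* Matrix.ProjectiveSpecialLinearGroup (Fin 2) F)) ∨ Bad S := by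
  obtain ⟨n, hn, ⟨e⟩⟩ := h
  rcases Nat.lt_or_ge n 6 with h6 | h6
  · obtain rfl : n = 5 := by omega
    haveI : Fact (Nat.Prime 2) := ⟨Nat.prime_two⟩
    letI : Fintype (GaloisField 2 2) := Fintype.ofFinite _
    have hc : Fintype.card (GaloisField 2 2) = 4 := by
      rw [← Nat.card_eq_fintype_card, GaloisField.card 2 2 two_ne_zero]; norm_num
    obtain ⟨g⟩ := Cfsg.Agent.S0252.result hc
    exact Or.inl ⟨GaloisField 2 2, inferInstance, inferInstance, inferInstance, ⟨e.trans g.symm⟩⟩
  · exact Or.inr ((bad_alternating h6).of_equiv e.symm)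

end Cfsg.Lib.CyclicOdd
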