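import Mathlib

/-!
Criteria for a finite group to have a non-cyclic Sylow subgroup for some odd prime.
-/

set_option autoImplicit false
set_option linter.style.haveILetI false

namespace Cfsg.Lib.CyclicOdd

universe u v

/-- Some Sylow subgroup for an odd prime is not cyclic. -/
def Bad (G : Type u) [Group G] : Prop :=
  ∃ p : ℕ, p.Prime ∧ p ≠ 2 ∧ ∃ P : Sylow p G, ¬ IsCyclic P

theorem Bad.false {G : Type u} [Group G] (h : Bad G)
    (hc : ∀ p : ℕ, p.Prime → p ≠ 2 → ∀ P : Sylow p G, IsCyclic P) : False := by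
  obtain ⟨p, hp, hp2, P, hP⟩ := h
  exact hP (hc p hp hp2 P)

variable {G : Type u} [Group G] {H : Type v} [Group H]

/-- Non-cyclic odd Sylow subgroups go up along injective homomorphisms. -/
theorem Bad.of_injective (f : H →* G) (hf : Function.Injective f) (h : Bad H) : Bad G := by
  obtain ⟨p, hp, hp2, P, hP⟩ := h
  obtain ⟨Q, hQ⟩ := (P.isPGroup'.map f).exists_le_sylow
  refine ⟨p, hp, hp2, Q, fun hc => hP ?_⟩
  haveI := hc
  exact isCyclic_of_injective
    ((Subgroup.inclusion hQ).comp (((P : Subgroup H).equivMapOfInjective f hf).toMonoidHom))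
    ((Subgroup.inclusion_injective hQ).comp ((P : Subgroup H).equivMapOfInjective f hf).injective)

theorem Bad.of_equiv (e : H ≃* G) (h : Bad H) : Bad G :=
  h.of_injective e.toMonoidHom e.injective

/-- Non-cyclic odd Sylow subgroups come down along surjective homomorphisms. -/
theorem Bad.of_surjective [Finite G] (f : G →* H) (hf : Function.Surjective f) (h : Bad H) : Bad G := by
  obtain ⟨p, hp, hp2, P, hP⟩ := h
  haveI := Fact.mk hp
  haveI : Finite H := Finite.of_surjective f hf
  obtain ⟨Q, hQ⟩ := Sylow.mapSurjective_surjective hf p P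
  refine ⟨p, hp, hp2, Q, fun hc => hP ?_⟩
  haveI := hc
  have hPe : (P : Subgroup H) = (Q : Subgroup G).map f := by rw [← hQ]; rfl
  haveI : IsCyclic ↥((Q : Subgroup G).map f) :=
    isCyclic_of_surjective (f.subgroupMap (Q : Subgroup G)) (f.subgroupMap_surjective (Q : Subgroup G))
  exact (MulEquiv.subgroupCongr hPe).isCyclic.2 this

/-- A subgroup with a non-cyclic odd Sylow subgroup. -/
theorem Bad.of_subgroup (K : Subgroup G) (h : Bad K) : Bad G :=
  h.of_injective K.subtype K.subtype_injective

/-- Two commuting elements of order dividing `p` that are not powers of each other. -/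
theorem bad_of_pair [Finite G] {p : ℕ} (hp : p.Prime) (hp2 : p ≠ 2) {x y : G} (hxy : Commute x y)
    (hx : x ^ p = 1) (hy : y ^ p = 1) (hx1 : x ≠ 1) (hyx : ∀ k : ℕ, k < p → y ≠ x ^ k) : Bad G := by
  classical
  haveI := Fact.mk hp
  let K : Subgroup G := Subgroup.closure {x, y}
  haveI : IsMulCommutative K := Subgroup.isMulCommutative_closure (by
    intro a ha b hb
    rcases ha with rfl | rfl <;> rcases hb with rfl | rfl <;>
      first | rfl | exact hxy.eq | exact hxy.eq.symm)
  have hpow : ∀ z : K, z ^ p = 1 := by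
    rintro ⟨z, hz⟩
    refine Subtype.ext ?_
    show z ^ p = 1
    induction hz using Subgroup.closure_induction with
    | mem w hw => rcases hw with rfl | rfl
                  · exact hx
                  · exact hy
    | one => exact one_pow p
    | mul a b ha hb iha ihb =>
      have hab : Commute a b := by
        have := (IsMulCommutative.is_comm (M := K)).comm ⟨a, ha⟩ ⟨b, hb⟩
        exact congrArg Subtype.val this
      rw [hab.mul_pow, iha, ihb, mul_one]
    | inv a _ ih => rw [inv_pow, ih, inv_one]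
  have hK : IsPGroup p K := fun z => ⟨1, by rw [pow_one]; exact hpow z⟩
  obtain ⟨P, hP⟩ := hK.exists_le_sylow
  refine ⟨p, hp, hp2, P, fun hc => ?_⟩
  haveI := hc
  haveI : IsCyclic K := isCyclic_of_injective (Subgroup.inclusion hP) (Subgroup.inclusion_injective hP)
  letI := Fintype.ofFinite K
  let xK : K := ⟨x, Subgroup.subset_closure (Set.mem_insert _ _)⟩
  let yK : K := ⟨y, Subgroup.subset_closure (Set.mem_insert_of_mem _ rfl)⟩
  have hox : orderOf xK = p := orderOf_eq_prime (hpow xK) (fun h => hx1 (congrArg Subtype.val h))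
  have hnot : yK ∉ (Finset.range p).image (fun k => xK ^ k) := by
    intro h
    obtain ⟨k, hk, e⟩ := Finset.mem_image.1 h
    exact hyx k (Finset.mem_range.1 hk) (by simpa [xK, yK] using (congrArg Subtype.val e).symm)
  have hcard : (insert yK ((Finset.range p).image (fun k => xK ^ k))).card = p + 1 := by
    rw [Finset.card_insert_of_notMem hnot, Finset.card_image_of_injOn, Finset.card_range]
    intro a ha b hb e
    exact pow_injOn_Iio_orderOf (by rw [Set.mem_Iio, hox]; exact Finset.mem_range.1 ha)
      (by rw [Set.mem_Iio, hox]; exact Finset.mem_range.1 hb) e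
  have hle : (insert yK ((Finset.range p).image (fun k => xK ^ k))).card ≤ p :=
    le_trans (Finset.card_le_card fun z _ => Finset.mem_filter.2 ⟨Finset.mem_univ _, hpow z⟩)
      (IsCyclic.card_pow_eq_one_le hp.pos)
  omega

/-- A commuting pair in a quotient, given upstairs. -/
theorem bad_of_quot_pair [Finite G] {p : ℕ} (hp : p.Prime) (hp2 : p ≠ 2) {N : Subgroup H} [N.Normal]
    (f : H →* G) (hker : ∀ h : H, f h = 1 → h ∈ N) {x y : H} (hxy : f (x * y) = f (y * x))
    (hx : f (x ^ p) = 1) (hy : f (y ^ p) = 1) (hx1 : x ∉ N) (hyx : ∀ k : ℕ, k < p → (x ^ k)⁻¹ * y ∉ N) :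
    Bad G := by
  refine bad_of_pair hp hp2 (x := f x) (y := f y) ?_ ?_ ?_ (fun h => hx1 (hker x h)) ?_
  · exact (map_mul f x y).symm.trans (hxy.trans (map_mul f y x))
  · rw [← map_pow, hx]
  · rw [← map_pow, hy]
  · intro k hk e
    exact hyx k hk (hker _ (by rw [map_mul, map_inv, map_pow, e, inv_mul_cancel]))

/-- The order is divisible by `p ^ 2` but no element has order `p ^ 2`. -/
theorem bad_of_card [Finite G] {p : ℕ} (hp : p.Prime) (hp2 : p ≠ 2) (hdvd : p ^ 2 ∣ Nat.card G)
    (hno : ∀ g : G, orderOf g ≠ p ^ 2) : Bad G := by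
  haveI := Fact.mk hp
  obtain ⟨K, hK⟩ := Sylow.exists_subgroup_card_pow_prime p hdvd
  have hKp : IsPGroup p K := IsPGroup.of_card hK
  obtain ⟨P, hP⟩ := hKp.exists_le_sylow
  refine ⟨p, hp, hp2, P, fun hc => ?_⟩
  haveI := hc
  haveI : IsCyclic K := isCyclic_of_injective (Subgroup.inclusion hP) (Subgroup.inclusion_injective hP)
  obtain ⟨g, hg⟩ := IsCyclic.exists_ofOrder_eq_natCard (α := K)
  exact hno (g : G) (by rw [Subgroup.orderOf_coe, hg, hK])

end Cfsg.Lib.CyclicOdd
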