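import Cfsg.Agent.CyclicOdd.Base

/-!
Block embeddings of matrices and the two small pairs of matrices of order three.
-/

set_option autoImplicit false
set_option linter.style.haveILetI false
set_option linter.unusedSectionVars false

open Matrix

namespace Cfsg.Lib.CyclicOdd

universe u v

variable {κ ρ ι : Type} [Fintype κ] [Fintype ρ] [Fintype ι] [DecidableEq κ] [DecidableEq ρ] [DecidableEq ι]
  {R : Type u} [CommRing R]

/-- `A` on the part `κ`, the identity on the part `ρ`. -/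
def blockEmb (e : κ ⊕ ρ ≃ ι) : Matrix κ κ R →* Matrix ι ι R where
  toFun A := Matrix.reindex e e (Matrix.fromBlocks A 0 0 1)
  map_one' := by rw [Matrix.fromBlocks_one, Matrix.reindex_apply, Matrix.submatrix_one_equiv]
  map_mul' A B := by
    rw [Matrix.reindex_apply, Matrix.reindex_apply, Matrix.reindex_apply, Matrix.submatrix_mul_equiv,
      Matrix.fromBlocks_multiply]
    simp

theorem blockEmb_apply (e : κ ⊕ ρ ≃ ι) (A : Matrix κ κ R) :
    blockEmb e A = Matrix.reindex e e (Matrix.fromBlocks A 0 0 1) := rfl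

theorem blockEmb_inl (e : κ ⊕ ρ ≃ ι) (A : Matrix κ κ R) (i j : κ) :
    blockEmb e A (e (Sum.inl i)) (e (Sum.inl j)) = A i j := by
  simp [blockEmb_apply]

theorem det_blockEmb (e : κ ⊕ ρ ≃ ι) (A : Matrix κ κ R) : (blockEmb e A).det = A.det := by
  rw [blockEmb_apply, Matrix.det_reindex_self, Matrix.det_fromBlocks_zero₂₁, Matrix.det_one, mul_one]

theorem blockEmb_mulVec_inl (e : κ ⊕ ρ ≃ ι) (A : Matrix κ κ R) (v : ι → R) (i : κ) :
    (blockEmb e A *ᵥ v) (e (Sum.inl i)) = (A *ᵥ fun j => v (e (Sum.inl j))) i := by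
  rw [blockEmb_apply, Matrix.mulVec, dotProduct, ← e.sum_comp, Fintype.sum_sum_type]
  simp [Matrix.mulVec, dotProduct]

theorem blockEmb_mulVec_inr (e : κ ⊕ ρ ≃ ι) (A : Matrix κ κ R) (v : ι → R) (i : ρ) :
    (blockEmb e A *ᵥ v) (e (Sum.inr i)) = v (e (Sum.inr i)) := by
  rw [blockEmb_apply, Matrix.mulVec, dotProduct, ← e.sum_comp, Fintype.sum_sum_type]
  simp [Matrix.one_apply]

/-- A matrix that is not scalar. -/
def NonScalar (A : Matrix ι ι R) : Prop := ∀ r : R, A ≠ r • (1 : Matrix ι ι R)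

theorem NonScalar.of_offDiag {A : Matrix ι ι R} {i j : ι} (hij : i ≠ j) (h : A i j ≠ 0) : NonScalar A := by
  intro r e
  exact h (by rw [e, Matrix.smul_apply, Matrix.one_apply_ne hij, smul_zero])

theorem NonScalar.of_diag {A : Matrix ι ι R} {i j : ι} (h : A i i ≠ A j j) : NonScalar A := by
  intro r e
  exact h (by rw [e, Matrix.smul_apply, Matrix.smul_apply, Matrix.one_apply_eq, Matrix.one_apply_eq])

theorem NonScalar.blockEmb_of_offDiag (e : κ ⊕ ρ ≃ ι) {A : Matrix κ κ R} {i j : κ} (hij : i ≠ j)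
    (h : A i j ≠ 0) : NonScalar (blockEmb e A) :=
  NonScalar.of_offDiag (i := e (Sum.inl i)) (j := e (Sum.inl j))
    (fun c => hij (Sum.inl.inj (e.injective c))) (by rw [blockEmb_inl]; exact h)

/-- Two commuting matrices of order three, for two orthogonal blocks. -/
def blockX : Matrix (Fin 4) (Fin 4) ℤ := !![0, 1, 0, 0; -1, -1, 0, 0; 0, 0, 1, 0; 0, 0, 0, 1]

/-- The second of the two. -/
def blockY : Matrix (Fin 4) (Fin 4) ℤ := !![1, 0, 0, 0; 0, 1, 0, 0; 0, 0, 0, 1; 0, 0, -1, -1]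

/-- An integral matrix over the field. -/
def castM (R : Type u) [CommRing R] : Matrix κ κ ℤ →* Matrix κ κ R :=
  ((Int.castRingHom R).mapMatrix).toMonoidHom

theorem castM_apply (A : Matrix κ κ ℤ) (i j : κ) : castM R A i j = (A i j : R) := rfl

theorem det_castM (A : Matrix κ κ ℤ) : (castM R A).det = (A.det : R) :=
  ((Int.castRingHom R).map_det A).symm

/-- An integral product with an off-diagonal entry `±1` gives a matrix that is not scalar. -/
theorem NonScalar.castM [Nontrivial R] (e : κ ⊕ ρ ≃ ι) {A : Matrix κ κ ℤ}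
    (h : ∃ i j, i ≠ j ∧ (A i j = 1 ∨ A i j = -1)) : NonScalar (blockEmb e (castM R A)) := by
  obtain ⟨i, j, hij, h⟩ := h
  refine NonScalar.blockEmb_of_offDiag e hij ?_
  rw [castM_apply]
  rcases h with h | h <;> simp [h]

/-- An integral witness against `Y = r • X ^ k`. -/
theorem castM_ne_smul [Nontrivial R] (e : κ ⊕ ρ ≃ ι) {A B : Matrix κ κ ℤ} {k : ℕ} (i j : κ)
    (hA : (A ^ k) i j = 0) (hB : B i j = 1 ∨ B i j = -1) (r : R) :
    blockEmb e (Cfsg.Lib.CyclicOdd.castM R B) ≠ r • blockEmb e (Cfsg.Lib.CyclicOdd.castM R A) ^ k := by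
  intro h
  rw [← map_pow, ← map_pow] at h
  have h1 := congrFun (congrFun h (e (Sum.inl i))) (e (Sum.inl j))
  rw [Matrix.smul_apply, blockEmb_inl, blockEmb_inl, castM_apply, castM_apply, hA] at h1
  rcases hB with hB | hB <;> simp [hB] at h1

/-- A pair of matrices in a linear group, commuting up to a scalar, gives a non-cyclic Sylow
subgroup modulo the centre. -/
theorem bad_center_quotient {H : Type v} [Group H] [Finite H] (φ : H →* Matrix ι ι R)
    (hinj : Function.Injective φ) (hZ : ∀ z ∈ Subgroup.center H, ∃ r : R, φ z = r • (1 : Matrix ι ι R))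
    {p : ℕ} (hp : p.Prime) (hp2 : p ≠ 2) {x y : H} {X Y : Matrix ι ι R} (ex : φ x = X) (ey : φ y = Y)
    {c : R} (hXY : X * Y = c • (Y * X)) (hX : X ^ p = 1) (hY : Y ^ p = 1) (hX1 : NonScalar X)
    (hYX : ∀ k : ℕ, k < p → ∀ r : R, Y ≠ r • X ^ k) : Bad (H ⧸ Subgroup.center H) := by
  subst ex ey
  refine bad_of_quot_pair hp hp2 (N := Subgroup.center H) (QuotientGroup.mk' (Subgroup.center H))
    (fun h hh => (QuotientGroup.eq_one_iff h).1 hh) (x := x) (y := y) ?_ ?_ ?_ ?_ ?_
  · refine (QuotientGroup.eq.2 ?_).symm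
    set z := (y * x)⁻¹ * (x * y) with hz
    have hzc : φ z = c • (1 : Matrix ι ι R) := by
      rw [hz, map_mul, map_mul φ x y, hXY, mul_smul_comm, ← map_mul, ← map_mul, inv_mul_cancel, map_one]
    clear_value z
    refine Subgroup.mem_center_iff.2 fun w => hinj ?_
    rw [map_mul, map_mul, hzc, mul_smul_comm, smul_mul_assoc, mul_one, one_mul]
  · rw [show x ^ p = 1 from hinj (by rw [map_pow, hX, map_one]), map_one]
  · rw [show y ^ p = 1 from hinj (by rw [map_pow, hY, map_one]), map_one]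
  · intro h
    obtain ⟨r, hr⟩ := hZ x h
    exact hX1 r hr
  · intro k hk h
    obtain ⟨r, hr⟩ := hZ _ h
    refine hYX k hk r ?_
    have e : φ y = φ (x ^ k) * φ ((x ^ k)⁻¹ * y) := by rw [← map_mul, mul_inv_cancel_left]
    rw [e, hr, mul_smul_comm, mul_one, map_pow]

end Cfsg.Lib.CyclicOdd
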