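import Cfsg.Agent.CyclicOdd.Blocks
import Cfsg.Agent.Chev.Types
import Cfsg.Agent.Chev.More
import Cfsg.Agent.Known.RootCent
import Cfsg.Agent.Chev.F4Graph.Edges
import Cfsg.Prelude.Def_LieChev

/-!
The exceptional Chevalley groups have a non-cyclic odd Sylow subgroup.
-/

set_option autoImplicit false
set_option linter.style.haveILetI false
set_option linter.unusedSectionVars false

open Cfsg.Lie Cfsg.Lib.Chev

namespace Cfsg.Lib.CyclicOdd

variable {D : ChevalleyDatum} {C : Cert}

/-- The root subgroups of `r` and `s` commute. -/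
def okComm (D : ChevalleyDatum) (r s : ℕ) : Bool :=
  r < D.nroots && s < D.nroots && r != s && s != D.neg r && (D.commTerms r s).isEmpty

/-- Strongly orthogonal positive roots. -/
def okOrth (D : ChevalleyDatum) (r s : ℕ) : Bool :=
  decide (D.nroots / 2 ≤ r) && decide (D.nroots / 2 ≤ s) && r != s && okComm D r s && okComm D r (D.neg s) &&
    okComm D (D.neg r) s && okComm D (D.neg r) (D.neg s)

variable {F : Type} [Field F]

theorem commute_of_okComm (S : Struct D C) {r s : ℕ} (h : okComm D r s = true) (t u : F) :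
    Commute (S.ok.xG r t) (S.ok.xG s u) := by
  simp only [okComm, Bool.and_eq_true, decide_eq_true_eq, bne_iff_ne, List.isEmpty_iff] at h
  obtain ⟨⟨⟨⟨hr, hs⟩, hne⟩, hneg⟩, hnil⟩ := h
  have e := S.ok.commRel (F := F) S.chain S.base hr hs (fun h => hne h.symm) hneg t u
  have hw : S.ok.wG (D.commWord F r s t u) = 1 := by
    refine List.prod_eq_one fun g hg => ?_
    obtain ⟨p, hp, rfl⟩ := List.mem_map.1 hg
    obtain ⟨c, hc, rfl⟩ := List.mem_map.1 hp
    rw [hnil] at hc
    exact absurd hc List.not_mem_nil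
  rw [hw, mul_one] at e
  exact e.symm

variable [Fintype F]

theorem bad_chev (S : Struct D C) (hN : okNeg D = true) {r s : ℕ} (h : okOrth D r s = true) :
    Bad (D.group F) := by
  classical
  simp only [okOrth, Bool.and_eq_true, decide_eq_true_eq, bne_iff_ne] at h
  obtain ⟨⟨⟨⟨⟨⟨hrp, hsp⟩, hne⟩, h1⟩, h2⟩, h3⟩, h4⟩ := h
  have hlt : r < D.nroots ∧ s < D.nroots := by
    simp only [okComm, Bool.and_eq_true, decide_eq_true_eq] at h1
    exact ⟨h1.1.1.1.1, h1.1.1.1.2⟩
  obtain ⟨p, hcp⟩ := CharP.exists F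
  haveI := hcp
  have hp : p.Prime := CharP.char_is_prime F p
  by_cases hp2 : p = 2
  · subst hp2
    obtain ⟨φ, hφ1, hφ2, hφ3⟩ := S.hasSL2 (F := F) r hlt.1
    obtain ⟨ψ, hψ1, hψ2, hψ3⟩ := S.hasSL2 (F := F) s hlt.2
    have hφi := Cfsg.Lib.F4Graph.sl2_injective S hN hlt.1 hrp φ hφ1 hφ2
    have hψi := Cfsg.Lib.F4Graph.sl2_injective S hN hlt.2 hsp ψ hψ1 hψ2
    have hcomm : ∀ a b, Commute (φ a) (ψ b) := by
      have hle : φ.range ≤ Subgroup.centralizer
          (Set.range (S.ok.xG (F := F) s) ∪ Set.range (S.ok.xG (D.neg s))) := by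
        rw [hφ3, Subgroup.closure_le]
        intro y hy
        refine Subgroup.mem_centralizer_iff.2 ?_
        rcases hy with ⟨t, rfl⟩ | ⟨t, rfl⟩ <;> rintro z (⟨u, rfl⟩ | ⟨u, rfl⟩)
        · exact (commute_of_okComm S h1 t u).eq.symm
        · exact (commute_of_okComm S h2 t u).eq.symm
        · exact (commute_of_okComm S h3 t u).eq.symm
        · exact (commute_of_okComm S h4 t u).eq.symm
      intro a b
      have hb : ψ b ∈ Subgroup.centralizer ({φ a} : Set (GL D.Idx F)) := by
        have hle' : ψ.range ≤ Subgroup.centralizer ({φ a} : Set (GL D.Idx F)) := by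
          rw [hψ3, Subgroup.closure_le]
          intro y hy
          refine Subgroup.mem_centralizer_iff.2 fun w hw => ?_
          rw [Set.mem_singleton_iff.1 hw]
          exact (Subgroup.mem_centralizer_iff.1 (hle ⟨a, rfl⟩) y hy).symm
        exact hle' ⟨b, rfl⟩
      exact Subgroup.mem_centralizer_iff.1 hb (φ a) rfl
    have hmem : ∀ {v : ℕ} (θ : Matrix.SpecialLinearGroup (Fin 2) F →* GL D.Idx F),
        θ.range = Subgroup.closure (Set.range (S.ok.xG (F := F) v) ∪ Set.range (S.ok.xG (D.neg v))) →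
        ∀ a, θ a ∈ D.group F := by
      intro v θ hθ a
      have hle : θ.range ≤ D.group F := by
        rw [hθ, Subgroup.closure_le]
        rintro y (⟨u, rfl⟩ | ⟨u, rfl⟩) <;> exact S.ok.xG_mem_group _ _
      exact hle ⟨a, rfl⟩
    let M : Matrix.SpecialLinearGroup (Fin 2) F := ⟨!![0, 1; -1, -1], by simp [Matrix.det_fin_two]⟩
    have hM3 : M ^ 3 = 1 := by
      apply Subtype.ext
      rw [Matrix.SpecialLinearGroup.coe_pow, Matrix.SpecialLinearGroup.coe_one, pow_succ, pow_two]
      ext i j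
      fin_cases i <;> fin_cases j <;> simp [M, Matrix.mul_apply, Fin.sum_univ_two]
    have hM1 : ∀ k, k = 1 ∨ k = 2 → ∃ a, a * M ^ k ≠ M ^ k * a := by
      intro k hk
      refine ⟨uM 1, fun e => ?_⟩
      have e' := congrFun (congrFun (congrArg Cfsg.Lib.Chev.mat e) 0) 0
      have hMm : Cfsg.Lib.Chev.mat M = !![0, 1; -1, -1] := rfl
      rcases hk with rfl | rfl <;>
        simp only [pow_one, pow_two, mat_mul, mat_uM, hMm] at e' <;>
        simp [Matrix.mul_apply, Fin.sum_univ_two] at e'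
    refine bad_of_pair (p := 3) Nat.prime_three (by norm_num) (x := ⟨φ M, hmem φ hφ3 M⟩)
      (y := ⟨ψ M, hmem ψ hψ3 M⟩) (Subtype.ext (hcomm M M).eq) ?_ ?_ ?_ ?_
    · exact Subtype.ext (by rw [SubgroupClass.coe_pow, ← map_pow, hM3, map_one, Subgroup.coe_one])
    · exact Subtype.ext (by rw [SubgroupClass.coe_pow, ← map_pow, hM3, map_one, Subgroup.coe_one])
    · intro e
      have : φ M = φ 1 := by rw [map_one]; exact congrArg Subtype.val e
      have := congrFun (congrFun (congrArg Subtype.val (hφi this)) 0) 1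
      simp [M] at this
    · intro k hk e
      have e' : ψ M = φ (M ^ k) := by rw [map_pow]; exact congrArg Subtype.val e
      rcases Nat.eq_zero_or_pos k with rfl | hk0
      · rw [pow_zero, map_one, ← map_one ψ] at e'
        have := congrFun (congrFun (congrArg Subtype.val (hψi e')) 0) 1
        simp [M] at this
      · obtain ⟨a, ha⟩ := hM1 k (by omega)
        apply ha
        apply hφi
        rw [map_mul, map_mul, ← e']
        exact (hcomm a M).eq
  · haveI := Fact.mk hp
    have hpow : ∀ v (t : F) (k : ℕ), S.ok.xG v t ^ k = S.ok.xG v ((k : F) * t) := by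
      intro v t k
      induction k with
      | zero => rw [pow_zero, Nat.cast_zero, zero_mul, S.xG_zero]
      | succ k ih => rw [pow_succ, ih, S.ok.xG_mul, Nat.cast_succ, add_mul, one_mul]
    refine bad_of_pair hp hp2 (x := ⟨S.ok.xG r (1 : F), S.ok.xG_mem_group _ _⟩)
      (y := ⟨S.ok.xG s (1 : F), S.ok.xG_mem_group _ _⟩) (Subtype.ext (commute_of_okComm S h1 1 1).eq) ?_ ?_ ?_ ?_
    · exact Subtype.ext (by rw [SubgroupClass.coe_pow, hpow, CharP.cast_eq_zero, zero_mul, S.xG_zero]; rfl)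
    · exact Subtype.ext (by rw [SubgroupClass.coe_pow, hpow, CharP.cast_eq_zero, zero_mul, S.xG_zero]; rfl)
    · intro e
      exact one_ne_zero (S.xG_eq_one hlt.1 (congrArg Subtype.val e : S.ok.xG r (1 : F) = 1))
    · intro k _ e
      have e' : S.ok.xG s (1 : F) = S.ok.xG r ((k : F) * 1) := by
        rw [← hpow]; exact congrArg Subtype.val e
      exact hne (Cfsg.Lib.Known.RootCent.xG_inj_pos S hN hlt.1 hlt.2 hsp one_ne_zero e'.symm).1

theorem chevG2_cases {S : Type*} [Group S] [Finite S] (h : Cfsg.Lie.IsoChevG2 S) : Bad S := by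
  obtain ⟨F, iF, iFt, -, ⟨e⟩⟩ := h
  exact (bad_chev (F := F) G2.struct okNeg_G2 (r := 11) (s := 7) (by decide +kernel)).of_equiv e.symm

theorem chevF4_cases {S : Type*} [Group S] [Finite S] (h : Cfsg.Lie.IsoF4 S) : Bad S := by
  obtain ⟨F, iF, iFt, ⟨e⟩⟩ := h
  exact (bad_chev (F := F) F4.struct okNeg_F4 (r := 47) (s := 25) (by decide +kernel)).of_equiv e.symm

theorem chevE6_cases {S : Type*} [Group S] [Finite S] (h : Cfsg.Lie.IsoChevE6 S) : Bad S := by
  obtain ⟨F, iF, iFt, ⟨e⟩⟩ := h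
  exact (bad_chev (F := F) E6.struct okNeg_E6 (r := 71) (s := 36) (by decide +kernel)).of_equiv e.symm

theorem chevE7_cases {S : Type*} [Group S] [Finite S] (h : Cfsg.Lie.IsoE7 S) : Bad S := by
  obtain ⟨F, iF, iFt, ⟨e⟩⟩ := h
  exact (bad_chev (F := F) E7.struct okNeg_E7 (r := 125) (s := 63) (by decide +kernel)).of_equiv e.symm

theorem chevE8_cases {S : Type*} [Group S] [Finite S] (h : Cfsg.Lie.IsoE8 S) : Bad S := by
  obtain ⟨F, iF, iFt, ⟨e⟩⟩ := h
  exact (bad_chev (F := F) E8.struct okNeg_E8 (r := 239) (s := 121) (by decide +kernel)).of_equiv e.symm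

end Cfsg.Lib.CyclicOdd
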