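import Cfsg.Agent.CyclicOdd.Blocks

/-!
Pairs of diagonal and monomial matrices of odd prime order.
-/

set_option autoImplicit false
set_option linter.style.haveILetI false
set_option linter.unusedSectionVars false

open Matrix

namespace Cfsg.Lib.CyclicOdd

universe u

variable {F : Type u} [Field F]

/-- `a`, `a⁻¹`, `1, …`, starting at position `s`. -/
def dvec (n s : ℕ) (a : F) : Fin n → F :=
  fun i => if i.val = s then a else if i.val = s + 1 then a⁻¹ else 1

theorem prod_dvec {n s : ℕ} (hs : s + 1 < n) {a : F} (ha : a ≠ 0) : ∏ i, dvec n s a i = 1 := by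
  classical
  have hne : (⟨s, by omega⟩ : Fin n) ≠ ⟨s + 1, hs⟩ := by simp
  rw [← Finset.prod_subset (Finset.subset_univ {(⟨s, by omega⟩ : Fin n), ⟨s + 1, hs⟩})]
  · rw [Finset.prod_pair hne]
    simp [dvec, ha]
  · intro i _ hi
    simp only [Finset.mem_insert, Finset.mem_singleton, not_or] at hi
    have h1 : i.val ≠ s := fun h => hi.1 (Fin.ext h)
    have h2 : i.val ≠ s + 1 := fun h => hi.2 (Fin.ext h)
    simp [dvec, h1, h2]

theorem dvec_pow {n s r : ℕ} {a : F} (har : a ^ r = 1) (i : Fin n) : dvec n s a i ^ r = 1 := by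
  unfold dvec
  split_ifs <;> simp [inv_pow, har]

theorem diagonal_commute {n : ℕ} (d e : Fin n → F) :
    diagonal d * diagonal e = (1 : F) • (diagonal e * diagonal d) := by
  rw [one_smul, diagonal_mul_diagonal, diagonal_mul_diagonal]
  exact congrArg diagonal (funext fun i => mul_comm _ _)

theorem diagonal_pow_eq_one {n r : ℕ} {d : Fin n → F} (h : ∀ i, d i ^ r = 1) : diagonal d ^ r = 1 := by
  rw [diagonal_pow, ← diagonal_one]
  exact congrArg diagonal (funext fun i => h i)

theorem dvec_nonScalar {n : ℕ} (hn : 3 ≤ n) {a : F} (ha1 : a ≠ 1) : NonScalar (diagonal (dvec n 0 a)) :=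
  NonScalar.of_diag (i := ⟨0, by omega⟩) (j := ⟨2, by omega⟩) (by simpa [dvec] using ha1)

/-- The second diagonal matrix is no scalar multiple of a power of the first. -/
theorem dvec_pair {n : ℕ} (hn : 3 ≤ n) {a : F} (ha : a ≠ 0) (ha1 : a ≠ 1) (h3 : n = 3 → a ^ 3 ≠ 1)
    (k : ℕ) (r : F) : diagonal (dvec n 1 a) ≠ r • diagonal (dvec n 0 a) ^ k := by
  intro e
  have h : ∀ i : Fin n, dvec n 1 a i = r * dvec n 0 a i ^ k := fun i => by
    have := congrFun (congrFun e i) i
    rwa [diagonal_pow, Matrix.smul_apply, diagonal_apply_eq, diagonal_apply_eq, Pi.pow_apply, smul_eq_mul] at this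
  have h0 : r * a ^ k = 1 := by
    have := h ⟨0, by omega⟩
    simpa [dvec] using this.symm
  have h1 : r * (a⁻¹) ^ k = a := by
    have := h ⟨1, by omega⟩
    simpa [dvec] using this.symm
  have h2 : r = a⁻¹ := by
    have := h ⟨2, by omega⟩
    simpa [dvec] using this.symm
  have hak : a ^ k = a := by
    rw [h2] at h0
    field_simp at h0
    exact h0
  rw [h2, inv_pow, hak] at h1
  have ha3 : a ^ 3 = 1 := by
    have h1' : a⁻¹ * a⁻¹ * (a * a) = a * (a * a) := by rw [h1]
    field_simp at h1'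
    linear_combination -h1'
  rcases Nat.eq_or_lt_of_le hn with h' | h'
  · exact h3 h'.symm ha3
  · have := h ⟨3, by omega⟩
    rw [h2] at this
    simp [dvec] at this
    exact ha1 this

/-- The cyclic permutation matrix of degree three. -/
def perm3 : Matrix (Fin 3) (Fin 3) F := !![0, 1, 0; 0, 0, 1; 1, 0, 0]

theorem perm3_sq : (perm3 : Matrix (Fin 3) (Fin 3) F) ^ 2 = !![0, 0, 1; 1, 0, 0; 0, 1, 0] := by
  rw [pow_two]
  ext i j
  fin_cases i <;> fin_cases j <;> simp [perm3, Matrix.mul_apply, Fin.sum_univ_three]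

theorem perm3_cube : (perm3 : Matrix (Fin 3) (Fin 3) F) ^ 3 = 1 := by
  rw [pow_succ, perm3_sq]
  ext i j
  fin_cases i <;> fin_cases j <;> simp [perm3, Matrix.mul_apply, Fin.sum_univ_three]

theorem det_perm3 : (perm3 : Matrix (Fin 3) (Fin 3) F).det = 1 := by
  rw [Matrix.det_fin_three]; simp [perm3]

theorem perm3_nonScalar : NonScalar (perm3 : Matrix (Fin 3) (Fin 3) F) :=
  NonScalar.of_offDiag (i := 0) (j := 1) (by decide) (by simp [perm3])

theorem perm3_diag {w : F} (hw : w ^ 3 = 1) :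
    perm3 * diagonal ![1, w, w ^ 2] = w • (diagonal ![1, w, w ^ 2] * perm3) := by
  ext i j
  fin_cases i <;> fin_cases j <;> simp [perm3, Matrix.mul_apply, Fin.sum_univ_three]
  · ring
  · linear_combination -hw

theorem diag3_pow {w : F} (hw : w ^ 3 = 1) (i : Fin 3) : (![1, w, w ^ 2] : Fin 3 → F) i ^ 3 = 1 := by
  fin_cases i <;> simp [hw, ← pow_mul]
  linear_combination (w ^ 3 + 1) * hw

theorem perm3_pair {w : F} (hw : w ≠ 1) (k : ℕ) (hk : k < 3) (r : F) :
    diagonal ![1, w, w ^ 2] ≠ r • (perm3 : Matrix (Fin 3) (Fin 3) F) ^ k := by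
  intro e
  interval_cases k
  · have h0 := congrFun (congrFun e 0) 0
    have h1 := congrFun (congrFun e 1) 1
    simp at h0 h1
    exact hw (h1.trans h0.symm)
  · have h0 := congrFun (congrFun e 0) 0
    simp [perm3] at h0
  · have h0 := congrFun (congrFun e 0) 0
    simp [perm3_sq] at h0

/-- The prime field together with an element outside it. -/
theorem exists_not_natCast [Fintype F] {p : ℕ} [Fact p.Prime] [CharP F p] (h : Fintype.card F ≠ p) :
    ∃ t : F, ∀ k : ℕ, (k : F) ≠ t := by
  by_contra hne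
  push_neg at hne
  have hsurj : Function.Surjective (ZMod.castHom (dvd_refl p) F) := fun t => by
    obtain ⟨k, hk⟩ := hne t
    exact ⟨(k : ZMod p), by rw [map_natCast, hk]⟩
  have := Fintype.card_of_bijective (f := ZMod.castHom (dvd_refl p) F)
    ⟨(ZMod.castHom (dvd_refl p) F).injective, hsurj⟩
  rw [ZMod.card] at this
  exact h this.symm

/-- An element of prime order `r`, for `r` dividing the order of the unit group. -/
theorem exists_root_of_dvd [Fintype F] {r : ℕ} (hr : r.Prime) (h : r ∣ Fintype.card F - 1) :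
    ∃ a : F, a ^ r = 1 ∧ a ≠ 0 ∧ a ≠ 1 := by
  classical
  haveI := Fact.mk hr
  obtain ⟨u, hu⟩ := exists_prime_orderOf_dvd_card' (G := Fˣ) r (by
    rw [Nat.card_units, Nat.card_eq_fintype_card]; exact h)
  refine ⟨u, ?_, u.ne_zero, fun e => hr.ne_one ?_⟩
  · rw [← Units.val_pow_eq_pow_val, ← hu, pow_orderOf_eq_one, Units.val_one]
  · rw [← hu, orderOf_eq_one_iff]
    exact Units.ext e

end Cfsg.Lib.CyclicOdd
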