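import Cfsg.Agent.CyclicOdd.Diagonal
import Cfsg.Agent.Classical.Misc.PSLSeven
import Cfsg.Prelude.Def_Classical

/-!
Projective special linear groups with all odd Sylow subgroups cyclic.
-/

set_option autoImplicit false
set_option linter.style.haveILetI false
set_option linter.unusedSectionVars false

open Matrix

namespace Cfsg.Lib.CyclicOdd

universe u

variable {F : Type} [Field F] [Fintype F] [DecidableEq F]

theorem bad_psl_pair {n : ℕ} {p : ℕ} (hp : p.Prime) (hp2 : p ≠ 2) {X Y : Matrix (Fin n) (Fin n) F}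
    (hdX : X.det = 1) (hdY : Y.det = 1) {c : F} (hXY : X * Y = c • (Y * X)) (hX : X ^ p = 1) (hY : Y ^ p = 1)
    (hX1 : NonScalar X) (hYX : ∀ k : ℕ, k < p → ∀ r : F, Y ≠ r • X ^ k) :
    Bad (Matrix.ProjectiveSpecialLinearGroup (Fin n) F) := by
  refine bad_center_quotient (Cfsg.slToMat n F) (fun a b h => Subtype.ext h) ?_ hp hp2
    (x := ⟨X, hdX⟩) (y := ⟨Y, hdY⟩) rfl rfl hXY hX hY hX1 hYX
  intro z hz
  obtain ⟨r, -, hr⟩ := Matrix.SpecialLinearGroup.mem_center_iff.1 hz
  refine ⟨r, ?_⟩
  show (z : Matrix (Fin n) (Fin n) F) = r • 1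
  rw [← hr, Matrix.scalar_apply, ← Matrix.smul_one_eq_diagonal]

theorem transvection_pow {n : ℕ} {i j : Fin n} (hij : i ≠ j) (c : F) (k : ℕ) :
    transvection i j c ^ k = transvection i j ((k : F) * c) := by
  induction k with
  | zero => rw [pow_zero, Nat.cast_zero, zero_mul, transvection_zero]
  | succ k ih => rw [pow_succ, ih, transvection_mul_transvection_same i j hij, Nat.cast_succ, add_mul, one_mul]

theorem transvection_pow_char {n : ℕ} {p : ℕ} [CharP F p] {i j : Fin n} (hij : i ≠ j) (c : F) :
    transvection i j c ^ p = 1 := by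
  rw [transvection_pow hij, CharP.cast_eq_zero, zero_mul, transvection_zero]

theorem transvection_nonScalar {n : ℕ} {i j : Fin n} (hij : i ≠ j) {c : F} (hc : c ≠ 0) :
    NonScalar (transvection i j c) :=
  NonScalar.of_offDiag hij (by simp [transvection, Matrix.single, hij, hc])

/-- Two commuting root elements in `SL n`, `n ≥ 3`, in odd characteristic. -/
theorem bad_psl_odd {n : ℕ} (hn : 3 ≤ n) {p : ℕ} (hp : p.Prime) (hp2 : p ≠ 2) [CharP F p] :
    Bad (Matrix.ProjectiveSpecialLinearGroup (Fin n) F) := by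
  let a : Fin n := ⟨0, by omega⟩
  let b : Fin n := ⟨1, by omega⟩
  let d : Fin n := ⟨2, by omega⟩
  have hab : a ≠ b := by simp [a, b]
  have had : a ≠ d := by simp [a, d]
  have hbd : b ≠ d := by simp [b, d]
  refine bad_psl_pair hp hp2 (X := transvection a b (1 : F)) (Y := transvection a d (1 : F)) (c := 1)
    (det_transvection_of_ne a b hab _) (det_transvection_of_ne a d had _) ?_
    (transvection_pow_char hab _) (transvection_pow_char had _) (transvection_nonScalar hab one_ne_zero) ?_
  · rw [one_smul]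
    simp only [transvection, mul_add, add_mul, one_mul, mul_one]
    rw [Matrix.single_mul_single_of_ne (h := hab.symm), Matrix.single_mul_single_of_ne (h := had.symm)]
    abel
  · intro k _ r e
    have h := congrFun (congrFun e a) d
    rw [transvection_pow hab] at h
    simp [transvection, Matrix.single, had, hbd] at h

/-- Root elements of `SL 2` over a field that is not a prime field. -/
theorem bad_psl_two {p : ℕ} (hp : p.Prime) (hp2 : p ≠ 2) [CharP F p] (hF : Fintype.card F ≠ p) :
    Bad (Matrix.ProjectiveSpecialLinearGroup (Fin 2) F) := by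
  haveI := Fact.mk hp
  obtain ⟨t, ht⟩ := exists_not_natCast (F := F) (p := p) hF
  have h01 : (0 : Fin 2) ≠ 1 := by decide
  refine bad_psl_pair hp hp2 (X := transvection 0 1 (1 : F)) (Y := transvection 0 1 t) (c := 1)
    (det_transvection_of_ne _ _ h01 _) (det_transvection_of_ne _ _ h01 _) ?_
    (transvection_pow_char h01 _) (transvection_pow_char h01 _) (transvection_nonScalar h01 one_ne_zero) ?_
  · rw [one_smul, transvection_mul_transvection_same (0 : Fin 2) 1 h01, transvection_mul_transvection_same (0 : Fin 2) 1 h01, add_comm]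
  · intro k _ r e
    have h0 := congrFun (congrFun e 0) 0
    have h1 := congrFun (congrFun e 0) 1
    rw [transvection_pow h01] at h0 h1
    simp [transvection, Matrix.single] at h0 h1
    rw [← h0] at h1
    exact ht k (by simpa using h1.symm)

/-- Two block elements of order three. -/
theorem bad_psl_four {n : ℕ} (hn : 4 ≤ n) : Bad (Matrix.ProjectiveSpecialLinearGroup (Fin n) F) := by
  let e : Fin 4 ⊕ Fin (n - 4) ≃ Fin n := finSumFinEquiv.trans (finCongr (by omega))
  refine bad_psl_pair (p := 3) Nat.prime_three (by norm_num)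
    (X := blockEmb e (castM F blockX)) (Y := blockEmb e (castM F blockY)) (c := 1) ?_ ?_ ?_ ?_ ?_ ?_ ?_
  · rw [det_blockEmb, det_castM, show blockX.det = 1 by decide]; norm_num
  · rw [det_blockEmb, det_castM, show blockY.det = 1 by decide]; norm_num
  · rw [one_smul, ← map_mul, ← map_mul, ← map_mul, ← map_mul, show blockX * blockY = blockY * blockX by decide]
  · rw [← map_pow, ← map_pow, show blockX ^ 3 = 1 by decide, map_one, map_one]
  · rw [← map_pow, ← map_pow, show blockY ^ 3 = 1 by decide, map_one, map_one]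
  · exact NonScalar.castM e ⟨0, 1, by decide, Or.inl (by decide)⟩
  · intro k _ r h
    rw [← map_pow, ← map_pow] at h
    have h1 := congrFun (congrFun h (e (Sum.inl 2))) (e (Sum.inl 3))
    rw [Matrix.smul_apply, blockEmb_inl, blockEmb_inl, castM_apply, castM_apply] at h1
    have hz : ∀ m : ℕ, (blockX ^ m) 2 3 = 0 ∧ (blockX ^ m) 2 2 = 1 := by
      intro m
      induction m with
      | zero => decide
      | succ m ih =>
        rw [pow_succ, Matrix.mul_apply, Matrix.mul_apply, Fin.sum_univ_four, Fin.sum_univ_four, ih.1, ih.2]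
        simp [blockX]
    rw [(hz k).1] at h1
    simp [blockY] at h1

/-- `PSL 3` in characteristic two, over a field with more than two elements. -/
theorem bad_psl_three (h2 : ringChar F = 2) (h4 : 2 < Fintype.card F) :
    Bad (Matrix.ProjectiveSpecialLinearGroup (Fin 3) F) := by
  haveI : CharP F 2 := h2 ▸ ringChar.charP F
  by_cases h3 : 3 ∣ Fintype.card F - 1
  · obtain ⟨w, hw, -, hw1⟩ := exists_root_of_dvd (F := F) Nat.prime_three h3
    refine bad_psl_pair (p := 3) Nat.prime_three (by norm_num) (X := perm3) (Y := diagonal ![1, w, w ^ 2])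
      det_perm3 ?_ (perm3_diag hw) perm3_cube (diagonal_pow_eq_one (diag3_pow hw)) perm3_nonScalar
      (fun k hk r => perm3_pair hw1 k hk r)
    rw [det_diagonal, Fin.prod_univ_three]
    simp
    linear_combination hw
  · have h1 : Fintype.card F - 1 ≠ 1 := by omega
    obtain ⟨r, hr, hrd⟩ := Nat.exists_prime_and_dvd h1
    have hr2 : r ≠ 2 := by
      rintro rfl
      have := FiniteField.even_card_iff_char_two.1 h2
      omega
    obtain ⟨a, har, ha0, ha1⟩ := exists_root_of_dvd (F := F) hr hrd
    refine bad_psl_pair hr hr2 (X := diagonal (dvec 3 0 a)) (Y := diagonal (dvec 3 1 a))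
      (by rw [det_diagonal]; exact prod_dvec (by norm_num) ha0)
      (by rw [det_diagonal]; exact prod_dvec (by norm_num) ha0) (diagonal_commute _ _)
      (diagonal_pow_eq_one (dvec_pow har)) (diagonal_pow_eq_one (dvec_pow har))
      (dvec_nonScalar le_rfl ha1) (fun k _ s => dvec_pair le_rfl ha0 ha1 (fun _ h => ?_) k s)
    have hr3 : r ≠ 3 := fun h' => h3 (h' ▸ hrd)
    have hor : orderOf a = r := by
      haveI := Fact.mk hr
      exact orderOf_eq_prime har ha1
    have := orderOf_dvd_of_pow_eq_one h
    rw [hor] at this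
    exact hr3 ((Nat.prime_dvd_prime_iff_eq hr Nat.prime_three).1 this)

theorem psl_cases {S : Type u} [Group S] [Finite S] (h : Cfsg.IsPSL S) :
    (∃ (F : Type) (_ : Field F) (_ : Fintype F), CharP F 2 ∧
      Nonempty (S ≃* Matrix.ProjectiveSpecialLinearGroup (Fin 2) F)) ∨
    (∃ (F : Type) (_ : Field F) (_ : Fintype F), (Fintype.card F).Prime ∧ Fintype.card F ≠ 2 ∧
      Nonempty (S ≃* Matrix.ProjectiveSpecialLinearGroup (Fin 2) F)) ∨ Bad S := by
  classical
  obtain ⟨F, iF, iFt, n, hn, h4, ⟨e⟩⟩ := h
  obtain ⟨p, hcp⟩ := CharP.exists F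
  haveI := hcp
  have hp : p.Prime := CharP.char_is_prime F p
  haveI := Fact.mk hp
  rcases Nat.eq_or_lt_of_le hn with rfl | hn3
  · by_cases hp2 : p = 2
    · subst hp2
      exact Or.inl ⟨F, iF, iFt, hcp, ⟨e⟩⟩
    · by_cases hF : Fintype.card F = p
      · exact Or.inr (Or.inl ⟨F, iF, iFt, hF ▸ hp, hF ▸ hp2, ⟨e⟩⟩)
      · exact Or.inr (Or.inr ((bad_psl_two hp hp2 hF).of_equiv e.symm))
  · by_cases hn4 : 4 ≤ n
    · exact Or.inr (Or.inr ((bad_psl_four hn4).of_equiv e.symm))
    · obtain rfl : n = 3 := by omega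
      by_cases hp2 : p = 2
      · subst hp2
        by_cases hc : 2 < Fintype.card F
        · exact Or.inr (Or.inr ((bad_psl_three (ringChar.eq F 2) hc).of_equiv e.symm))
        · have hc2 : Fintype.card F = 2 := by have := Fintype.one_lt_card (α := F); omega
          haveI : Fact (Nat.Prime 7) := ⟨by norm_num⟩
          obtain ⟨g⟩ := Cfsg.Lib.Classical.PSLSeven.psl_seven (F := ZMod 7) (ZMod.card 7) hc2
          exact Or.inr (Or.inl ⟨ZMod 7, inferInstance, inferInstance, by rw [ZMod.card]; norm_num,
            by rw [ZMod.card]; norm_num, ⟨e.trans g.symm⟩⟩)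
      · exact Or.inr (Or.inr ((bad_psl_odd le_rfl hp hp2).of_equiv e.symm))

end Cfsg.Lib.CyclicOdd
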