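import Cfsg.Agent.CyclicOdd.Symplectic
import Cfsg.Agent.Classical.Orth.StdForms
import Cfsg.Agent.Classical.Orth.Simple
import Cfsg.Agent.Classical.Misc.HyperbolicQuadric

/-!
The simple orthogonal groups have a non-cyclic odd Sylow subgroup.
-/

set_option autoImplicit false
set_option linter.style.haveILetI false
set_option linter.unusedSectionVars false

open Matrix
open scoped commutatorElement

namespace Cfsg.Lib.CyclicOdd

/-- An element of order three of the linear part of two hyperbolic pairs. -/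
def oX : Matrix (Fin 2 ⊕ Fin 2) (Fin 2 ⊕ Fin 2) ℤ :=
  fromBlocks !![0, 1; -1, -1] 0 0 !![-1, 1; -1, 0]

/-- The exchange inside the second pair. -/
def oS : Matrix (Fin 2 ⊕ Fin 2) (Fin 2 ⊕ Fin 2) ℤ :=
  fromBlocks !![1, 0; 0, 0] !![0, 0; 0, 1] !![0, 0; 0, 1] !![1, 0; 0, 0]

/-- An element inverting `oX`. -/
def oG : Matrix (Fin 2 ⊕ Fin 2) (Fin 2 ⊕ Fin 2) ℤ :=
  fromBlocks !![0, 1; 1, 0] 0 0 !![0, 1; 1, 0]

variable {F : Type} [Field F] [Fintype F]

theorem oX_preserves (v : Fin 2 ⊕ Fin 2 → F) :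
    Cfsg.quadFormPlus 2 F (castM F oX *ᵥ v) = Cfsg.quadFormPlus 2 F v := by
  simp [Cfsg.quadFormPlus, oX, castM, Matrix.mulVec, dotProduct, Fin.sum_univ_two]
  ring

theorem oS_preserves (v : Fin 2 ⊕ Fin 2 → F) :
    Cfsg.quadFormPlus 2 F (castM F oS *ᵥ v) = Cfsg.quadFormPlus 2 F v := by
  simp [Cfsg.quadFormPlus, oS, castM, Matrix.mulVec, dotProduct, Fin.sum_univ_two]
  ring

theorem oG_preserves (v : Fin 2 ⊕ Fin 2 → F) :
    Cfsg.quadFormPlus 2 F (castM F oG *ᵥ v) = Cfsg.quadFormPlus 2 F v := by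
  simp [Cfsg.quadFormPlus, oG, castM, Matrix.mulVec, dotProduct, Fin.sum_univ_two]
  ring

variable {ι ρ : Type} [Fintype ι] [DecidableEq ι] [Fintype ρ] [DecidableEq ρ]

theorem preserves_blockEmb (e : (Fin 2 ⊕ Fin 2) ⊕ ρ ≃ ι) {f : (ι → F) → F} {g : (ρ → F) → F}
    (hf : ∀ u, f u = Cfsg.quadFormPlus 2 F (fun i => u (e (Sum.inl i))) + g (fun i => u (e (Sum.inr i))))
    {A : Matrix (Fin 2 ⊕ Fin 2) (Fin 2 ⊕ Fin 2) F}
    (hA : ∀ v, Cfsg.quadFormPlus 2 F (A *ᵥ v) = Cfsg.quadFormPlus 2 F v) (u : ι → F) :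
    f (blockEmb e A *ᵥ u) = f u := by
  rw [hf, hf, funext (blockEmb_mulVec_inl e A u), funext (blockEmb_mulVec_inr e A u), hA]

/-- The commutator subgroup of the isometry group, modulo its centre. -/
theorem bad_pomega (e : (Fin 2 ⊕ Fin 2) ⊕ ρ ≃ ι) {f : (ι → F) → F} {g : (ρ → F) → F}
    (hf : ∀ u, f u = Cfsg.quadFormPlus 2 F (fun i => u (e (Sum.inl i))) + g (fun i => u (e (Sum.inr i))))
    (hZ : ∀ z ∈ Subgroup.center (Cfsg.Omega F f), ∃ r : F,
      ((z.1 : GL ι F) : Matrix ι ι F) = r • (1 : Matrix ι ι F)) :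
    Bad (Cfsg.POmega F f) := by
  classical
  let Φ := (blockEmb e).comp (castM (κ := Fin 2 ⊕ Fin 2) F)
  let uX : (Matrix (Fin 2 ⊕ Fin 2) (Fin 2 ⊕ Fin 2) ℤ)ˣ := ⟨oX, oX ^ 2, by decide, by decide⟩
  let uS : (Matrix (Fin 2 ⊕ Fin 2) (Fin 2 ⊕ Fin 2) ℤ)ˣ := ⟨oS, oS, by decide, by decide⟩
  let uG : (Matrix (Fin 2 ⊕ Fin 2) (Fin 2 ⊕ Fin 2) ℤ)ˣ := ⟨oG, oG, by decide, by decide⟩
  let X : Cfsg.isometryGroup F f :=
    ⟨Units.map Φ uX, fun u _ => preserves_blockEmb e hf oX_preserves u⟩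
  let S : Cfsg.isometryGroup F f :=
    ⟨Units.map Φ uS, fun u _ => preserves_blockEmb e hf oS_preserves u⟩
  let G : Cfsg.isometryGroup F f :=
    ⟨Units.map Φ uG, fun u _ => preserves_blockEmb e hf oG_preserves u⟩
  let mt : Cfsg.isometryGroup F f →* Matrix ι ι F := (Units.coeHom _).comp (Cfsg.isometryGroup F f).subtype
  have hmt : Function.Injective mt := fun a b h => Subtype.ext (Units.ext h)
  have eX : mt X = Φ oX := rfl
  have eS : mt S = Φ oS := rfl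
  have eG : mt G = Φ oG := rfl
  have hX3 : X ^ 3 = 1 := hmt (by rw [map_pow, eX, ← map_pow, show oX ^ 3 = 1 by decide, map_one, map_one])
  have hG2 : G * G = 1 := hmt (by rw [map_mul, eG, ← map_mul, show oG * oG = 1 by decide, map_one, map_one])
  have hinv : G * X ^ 2 * G = X := hmt (by
    rw [map_mul, map_mul, map_pow, eG, eX, ← map_pow, ← map_mul, ← map_mul,
      show oG * oX ^ 2 * oG = oX by decide])
  have hXmem : X ∈ Cfsg.Omega F f := by
    have hXi : X⁻¹ = X ^ 2 := inv_eq_of_mul_eq_one_right (by rw [← pow_succ']; exact hX3)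
    have hGi : G⁻¹ = G := inv_eq_of_mul_eq_one_right hG2
    have hc : X ^ 2 ∈ Cfsg.Omega F f := by
      have h : ⁅G, X⁻¹⁆ ∈ commutator (Cfsg.isometryGroup F f) :=
        Subgroup.commutator_mem_commutator (Subgroup.mem_top G) (Subgroup.mem_top X⁻¹)
      rw [commutatorElement_def, inv_inv, hGi, hXi, hinv, ← pow_two] at h
      exact h
    have := pow_mem hc 2
    rwa [← pow_mul, show 2 * 2 = 3 + 1 from rfl, pow_succ, hX3, one_mul] at this
  have hnor : (Cfsg.Omega F f).Normal := inferInstanceAs (commutator _).Normal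
  have hYmem : S * X * S⁻¹ ∈ Cfsg.Omega F f := hnor.conj_mem X hXmem S
  have hSi : S⁻¹ = S := inv_eq_of_mul_eq_one_right
    (hmt (by rw [map_mul, eS, ← map_mul, show oS * oS = 1 by decide, map_one, map_one]))
  refine bad_center_quotient (mt.comp (Cfsg.Omega F f).subtype) (fun a b h => Subtype.ext (hmt h)) hZ
    (p := 3) Nat.prime_three (by norm_num) (x := ⟨X, hXmem⟩) (y := ⟨S * X * S⁻¹, hYmem⟩)
    (X := Φ oX) (Y := Φ (oS * oX * oS)) eX ?_ (c := 1) ?_ ?_ ?_ ?_ ?_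
  · show mt (S * X * S⁻¹) = _
    rw [hSi, map_mul, map_mul, eS, eX, map_mul, map_mul]
  · rw [one_smul, ← map_mul, ← map_mul, show oX * (oS * oX * oS) = oS * oX * oS * oX by decide]
  · rw [← map_pow, show oX ^ 3 = 1 by decide, map_one]
  · rw [← map_pow, show (oS * oX * oS) ^ 3 = 1 by decide, map_one]
  · exact NonScalar.castM e ⟨Sum.inl 0, Sum.inl 1, by decide, Or.inl (by decide)⟩
  · intro k hk s
    exact castM_ne_smul e (Sum.inl 0) (Sum.inr 1) (by interval_cases k <;> decide)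
      (by decide) s

theorem center_scalar (Q : QuadraticForm F (ι → F)) (hQ : (QuadraticMap.polarBilin Q).Nondegenerate)
    (hn : 7 ≤ Fintype.card ι) {f : (ι → F) → F} (hf : ⇑Q = f) :
    ∀ z ∈ Subgroup.center (Cfsg.Omega F f), ∃ r : F,
      ((z.1 : GL ι F) : Matrix ι ι F) = r • (1 : Matrix ι ι F) := by
  subst hf
  intro z hz
  rcases (Cfsg.Lib.Classical.Refl.mem_center_iff_sign Q hQ hn).1 hz with h | h
  · exact ⟨1, by rw [one_smul]; exact h⟩
  · exact ⟨-1, by rw [neg_one_smul]; exact h⟩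

theorem plus_split (r : ℕ) (u : Fin (2 + r) ⊕ Fin (2 + r) → F) :
    Cfsg.quadFormPlus (2 + r) F u = Cfsg.quadFormPlus 2 F (fun i => u (spIdx r (Sum.inl i))) +
      Cfsg.quadFormPlus r F (fun i => u (spIdx r (Sum.inr i))) := by
  simp only [Cfsg.quadFormPlus, Fin.sum_univ_add]
  rfl

theorem pomega_plus_cases {S : Type*} [Group S] [Finite S] (h : Cfsg.IsPOmegaPlus S) : Bad S := by
  classical
  obtain ⟨F, iF, iFt, m, hm, ⟨e⟩⟩ := h
  obtain ⟨r, rfl⟩ : ∃ r, m = 2 + r := ⟨m - 2, by omega⟩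
  refine (bad_pomega (F := F) (spIdx r) (g := Cfsg.quadFormPlus r F) (plus_split r) ?_).of_equiv e.symm
  exact center_scalar _ (Cfsg.Lib.Classical.HypQuad.plusForm_nondegenerate (2 + r)) (by simp; omega)
    (funext (Cfsg.Lib.Classical.HypQuad.plusForm_apply (2 + r)))

/-- The indices of the odd form. -/
def oddIdx (r : ℕ) : (Fin 2 ⊕ Fin 2) ⊕ (Unit ⊕ (Fin r ⊕ Fin r)) ≃ Unit ⊕ (Fin (2 + r) ⊕ Fin (2 + r)) :=
  ((Equiv.sumAssoc _ _ _).symm.trans (Equiv.sumCongr (Equiv.sumComm _ _) (Equiv.refl _))).trans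
    ((Equiv.sumAssoc _ _ _).trans (Equiv.sumCongr (Equiv.refl _) (spIdx r)))

theorem pomega_odd_cases {S : Type*} [Group S] [Finite S] (h : Cfsg.IsPOmegaOdd S) : Bad S := by
  classical
  obtain ⟨F, iF, iFt, m, hm, hodd, ⟨e⟩⟩ := h
  obtain ⟨r, rfl⟩ : ∃ r, m = 2 + r := ⟨m - 2, by omega⟩
  have h2 : (2 : F) ≠ 0 := Cfsg.Lib.Classical.Refl.two_ne_zero_of_odd hodd
  refine (bad_pomega (F := F) (oddIdx r) (g := Cfsg.quadFormOdd r F) (fun u => ?_) ?_).of_equiv e.symm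
  · simp only [Cfsg.quadFormOdd, Cfsg.quadFormPlus, Fin.sum_univ_add]
    simp [oddIdx, spIdx]
    ring
  · exact center_scalar _ (Cfsg.Lib.Classical.Refl.oddForm_nondegenerate h2 (2 + r)) (by simp; omega)
      (Cfsg.Lib.Classical.Refl.oddForm_coe (2 + r))

theorem pomega_minus_cases {S : Type*} [Group S] [Finite S] (h : Cfsg.IsPOmegaMinus S) : Bad S := by
  classical
  obtain ⟨F, iF, iFt, m, a, b, hm, hab, ⟨e⟩⟩ := h
  obtain ⟨r, rfl⟩ : ∃ r, m = 2 + r + 1 := ⟨m - 3, by omega⟩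
  refine (bad_pomega (F := F)
    ((Equiv.sumAssoc _ _ _).symm.trans (Equiv.sumCongr (spIdx r) (Equiv.refl (Fin 2))))
    (g := Cfsg.quadFormMinus r F a b) (fun u => ?_) ?_).of_equiv e.symm
  · show Cfsg.quadFormMinus (2 + r) F a b u = _
    simp only [Cfsg.quadFormMinus, Cfsg.quadFormPlus, Fin.sum_univ_add]
    simp [spIdx]
    ring
  · show ∀ z ∈ Subgroup.center (Cfsg.Omega F (Cfsg.quadFormMinus (2 + r) F a b)), _
    exact center_scalar _ (Cfsg.Lib.Classical.Refl.minusForm_nondegenerate' (2 + r) hab) (by simp; omega)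
      (Cfsg.Lib.Classical.Refl.minusForm_coe (2 + r) a b)

end Cfsg.Lib.CyclicOdd
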