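import Cfsg.Agent.CyclicOdd.Chevalley

/-!
Commuting homomorphisms from `SL₂` onto root subgroups, in characteristic two.
-/

set_option autoImplicit false
set_option linter.style.haveILetI false
set_option linter.unusedSectionVars false

open Cfsg.Lie Cfsg.Lib.Chev

namespace Cfsg.Lib.CyclicOdd

variable {D : ChevalleyDatum} {C : Cert} {F : Type} [Field F] [CharP F 2]

/-- An element of order three of `SL₂`. -/
def elThree (F : Type) [Field F] : Matrix.SpecialLinearGroup (Fin 2) F := lM 1 * uM 1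

theorem mat_elThree : Cfsg.Lib.Chev.mat (elThree F) = !![1, 1; 1, 0] := by
  rw [elThree, mat_mul, mat_lM, mat_uM, Matrix.mul_fin_two]
  simp [CharTwo.add_self_eq_zero]

theorem elThree_cube : elThree F ^ 3 = 1 := by
  apply mat_inj
  rw [pow_succ, pow_two, mat_mul, mat_mul, mat_elThree, mat_one, Matrix.mul_fin_two, Matrix.mul_fin_two]
  ext i j
  fin_cases i <;> fin_cases j <;> simp [CharTwo.add_self_eq_zero]

theorem elThree_ne_one : elThree F ≠ 1 := by
  intro e
  have := congrFun (congrFun (congrArg Cfsg.Lib.Chev.mat e) 0) 1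
  rw [mat_elThree, mat_one] at this
  simp at this

theorem elThree_pow_not_central {k : ℕ} (hk : k = 1 ∨ k = 2) :
    uM 1 * elThree F ^ k ≠ elThree F ^ k * uM 1 := by
  intro e
  have e' := congrFun (congrFun (congrArg Cfsg.Lib.Chev.mat e) 0) 0
  rcases hk with rfl | rfl <;>
    simp only [pow_one, pow_two, mat_mul, mat_uM, mat_elThree] at e' <;>
    simp [Matrix.mul_apply, Fin.sum_univ_two, CharTwo.add_self_eq_zero] at e'

theorem central_eq_one {g : Matrix.SpecialLinearGroup (Fin 2) F} (h : ∀ a, a * g = g * a) : g = 1 := by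
  obtain ⟨r, hr, hg⟩ := Matrix.SpecialLinearGroup.mem_center_iff.1 (Subgroup.mem_center_iff.2 h)
  have hr1 : r = 1 := by
    rw [Fintype.card_fin, pow_two] at hr
    rcases mul_self_eq_one_iff.1 hr with e | e
    · exact e
    · rw [e, CharTwo.neg_eq]
  subst hr1
  exact Subtype.ext (by rw [← hg, map_one]; rfl)

/-- A product of homomorphisms from `SL₂` with commuting images is injective if the first is. -/
theorem injective_of_commute {G : Type*} [Group G] (φ ψ θ : Matrix.SpecialLinearGroup (Fin 2) F →* G)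
    (hφ : Function.Injective φ) (hc : ∀ a b, Commute (φ a) (ψ b)) (hθ : ∀ a, θ a = φ a * ψ a) :
    Function.Injective θ := by
  refine (injective_iff_map_eq_one θ).2 fun g hg => central_eq_one fun a => hφ ?_
  have e : φ g = (ψ g)⁻¹ := eq_inv_of_mul_eq_one_left ((hθ g).symm.trans hg)
  rw [map_mul, map_mul, e]
  exact (hc a g).inv_right.eq

variable [Fintype F]

/-- Two commuting copies of `SL₂`. -/
theorem bad_of_homs {H : Subgroup (GL D.Idx F)} (φ ψ : Matrix.SpecialLinearGroup (Fin 2) F →* GL D.Idx F)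
    (hφ : Function.Injective φ) (hψ : Function.Injective ψ) (hc : ∀ a b, Commute (φ a) (ψ b))
    (hφH : φ (elThree F) ∈ H) (hψH : ψ (elThree F) ∈ H) : Bad ↥H := by
  classical
  refine bad_of_pair (p := 3) Nat.prime_three (by norm_num) (x := ⟨_, hφH⟩) (y := ⟨_, hψH⟩)
    (Subtype.ext (hc _ _).eq) ?_ ?_ ?_ ?_
  · exact Subtype.ext (by rw [SubgroupClass.coe_pow, ← map_pow, elThree_cube, map_one, Subgroup.coe_one])
  · exact Subtype.ext (by rw [SubgroupClass.coe_pow, ← map_pow, elThree_cube, map_one, Subgroup.coe_one])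
  · intro e
    exact elThree_ne_one (hφ ((congrArg Subtype.val e : φ (elThree F) = 1).trans (map_one φ).symm))
  · intro k hk e
    have e' : ψ (elThree F) = φ (elThree F ^ k) := by rw [map_pow]; exact congrArg Subtype.val e
    rcases Nat.eq_zero_or_pos k with rfl | hk0
    · rw [pow_zero, map_one, ← map_one ψ] at e'
      exact elThree_ne_one (hψ e')
    · refine elThree_pow_not_central (F := F) (k := k) (by omega) (hφ ?_)
      rw [map_mul, map_mul, ← e']
      exact (hc (uM 1) _).eq

/-- The homomorphism of a positive root with its values on the generators. -/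
theorem exists_rootHom (S : Struct D C) (hN : okNeg D = true) {r : ℕ} (hr : r < D.nroots)
    (hrp : D.nroots / 2 ≤ r) :
    ∃ φ : Matrix.SpecialLinearGroup (Fin 2) F →* GL D.Idx F, Function.Injective φ ∧
      (∀ t, φ (uM t) = S.ok.xG r t) ∧ (∀ t, φ (lM t) = S.ok.xG (D.neg r) t) ∧
      φ (elThree F) = S.ok.xG (D.neg r) (1 : F) * S.ok.xG r 1 ∧
      φ.range = Subgroup.closure (Set.range (S.ok.xG (F := F) r) ∪ Set.range (S.ok.xG (D.neg r))) := by
  obtain ⟨φ, h1, h2, h3⟩ := S.hasSL2 (F := F) r hr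
  exact ⟨φ, Cfsg.Lib.F4Graph.sl2_injective S hN hr hrp φ h1 h2, h1, h2,
    by rw [elThree, map_mul, h2, h1], h3⟩

theorem commute_rootHom (S : Struct D C) {r s : ℕ} (h : okOrth D r s = true)
    {φ ψ : Matrix.SpecialLinearGroup (Fin 2) F →* GL D.Idx F}
    (hφ : φ.range = Subgroup.closure (Set.range (S.ok.xG (F := F) r) ∪ Set.range (S.ok.xG (D.neg r))))
    (hψ : ψ.range = Subgroup.closure (Set.range (S.ok.xG (F := F) s) ∪ Set.range (S.ok.xG (D.neg s))))
    (a b : Matrix.SpecialLinearGroup (Fin 2) F) : Commute (φ a) (ψ b) := by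
  simp only [okOrth, Bool.and_eq_true, decide_eq_true_eq, bne_iff_ne] at h
  obtain ⟨⟨⟨⟨-, h1⟩, h2⟩, h3⟩, h4⟩ := h
  have hle : φ.range ≤ Subgroup.centralizer
      (Set.range (S.ok.xG (F := F) s) ∪ Set.range (S.ok.xG (D.neg s))) := by
    rw [hφ, Subgroup.closure_le]
    intro y hy
    refine Subgroup.mem_centralizer_iff.2 ?_
    rcases hy with ⟨t, rfl⟩ | ⟨t, rfl⟩ <;> rintro z (⟨u, rfl⟩ | ⟨u, rfl⟩)
    · exact (commute_of_okComm S h1 t u).eq.symm
    · exact (commute_of_okComm S h2 t u).eq.symm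
    · exact (commute_of_okComm S h3 t u).eq.symm
    · exact (commute_of_okComm S h4 t u).eq.symm
  have hle' : ψ.range ≤ Subgroup.centralizer ({φ a} : Set (GL D.Idx F)) := by
    rw [hψ, Subgroup.closure_le]
    intro y hy
    refine Subgroup.mem_centralizer_iff.2 fun w hw => ?_
    rw [Set.mem_singleton_iff.1 hw]
    exact (Subgroup.mem_centralizer_iff.1 (hle ⟨a, rfl⟩) y hy).symm
  exact Subgroup.mem_centralizer_iff.1 (hle' ⟨b, rfl⟩) (φ a) rfl

omit [CharP F 2] [Fintype F] in
/-- A word of root elements in a subgroup given by words. -/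
theorem word_mem (S : Struct D C) {W : Set (List (ℕ × F))} {w : List (ℕ × F)} (hw : w ∈ W) :
    (w.map fun p => S.ok.xG p.1 p.2).prod ∈ D.genSubgroup F W := by
  refine Subgroup.subset_closure ⟨w, hw, ?_⟩
  rw [ChevalleyDatum.wordMat, ← Units.coeHom_apply, map_list_prod, List.map_map]
  exact congrArg List.prod (List.map_congr_left fun p _ => S.ok.val_xG _ _)

end Cfsg.Lib.CyclicOdd
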