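import Cfsg.Agent.CyclicOdd.Chevalley
import Cfsg.Agent.CyclicOdd.Diagonal
import Cfsg.Agent.CyclicOdd.RootHoms
import Cfsg.Agent.CyclicOdd.Spor.Tits
import Cfsg.Prelude.Def_LieTwisted

/-!
The small Ree groups and the groups `²F₄(q)` have a non-cyclic odd Sylow subgroup.
-/

set_option autoImplicit false
set_option linter.style.haveILetI false
set_option linter.unusedSectionVars false

open Cfsg.Lie Cfsg.Lib.Chev

namespace Cfsg.Lib.CyclicOdd

variable {K : Type} [Field K] [Fintype K]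

theorem ree_centre_mem {e : ℕ} (he : 0 < e) (v : K) :
    G2.struct.ok.xG g2aab (v ^ e) * G2.struct.ok.xG g2aaabb v ∈ twistedG2 K e := by
  have h := word_mem (F := K) G2.struct (W := g2Words K e) (w := reeWordU e (0 : K) 0 v) ⟨0, 0, v, Or.inl rfl⟩
  simpa [twistedG2, reeWordU, zero_pow he.ne', G2.struct.xG_zero, mul_assoc] using h

theorem bad_twistedG2 {m : ℕ} (hm : 1 ≤ m) (hK : Fintype.card K = 3 ^ (2 * m + 1)) :
    Bad ↥(twistedG2 K (3 ^ m)) := by
  classical
  obtain ⟨p, hcp⟩ := CharP.exists K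
  haveI := hcp
  have hp : p.Prime := CharP.char_is_prime K p
  haveI := Fact.mk hp
  have hp3 : p = 3 := by
    obtain ⟨n, -, hn⟩ := FiniteField.card K p
    have h3 : p ∣ 3 ^ (2 * m + 1) := hK ▸ hn ▸ dvd_pow_self p n.ne_zero
    exact (Nat.prime_dvd_prime_iff_eq hp Nat.prime_three).1 (hp.dvd_of_dvd_pow h3)
  subst hp3
  have hne : Fintype.card K ≠ 3 := by
    rw [hK]
    intro e
    have := Nat.pow_right_injective (le_refl 3 |>.trans' (by norm_num : 2 ≤ 3)) (e.trans (pow_one 3).symm)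
    omega
  obtain ⟨w, hw⟩ := exists_not_natCast (F := K) (p := 3) hne
  let S := G2.struct
  set e := 3 ^ m with he
  have he0 : 0 < e := by rw [he]; positivity
  have hcomm : ∀ a b : K, Commute (S.ok.xG g2aab a) (S.ok.xG g2aaabb b) := fun a b =>
    commute_of_okComm S (by decide +kernel) a b
  have hsame : ∀ (r : ℕ) (a b : K), Commute (S.ok.xG r a) (S.ok.xG r b) := fun r a b => by
    show _ = _
    rw [S.ok.xG_mul, S.ok.xG_mul, add_comm]
  have hpow : ∀ v (t : K) (k : ℕ), S.ok.xG v t ^ k = S.ok.xG v ((k : K) * t) := by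
    intro v t k
    induction k with
    | zero => rw [pow_zero, Nat.cast_zero, zero_mul, S.xG_zero]
    | succ k ih => rw [pow_succ, ih, S.ok.xG_mul, Nat.cast_succ, add_mul, one_mul]
  have hc3 : ∀ v : K, (S.ok.xG g2aab (v ^ e) * S.ok.xG g2aaabb v) ^ 3 = 1 := fun v => by
    rw [(hcomm _ _).mul_pow, hpow, hpow, CharP.cast_eq_zero, zero_mul, zero_mul, S.xG_zero, S.xG_zero, one_mul]
  have key : ∀ a b : K, S.ok.xG g2aab a * S.ok.xG g2aaabb b = 1 → a = 0 := by
    intro a b h
    have hm' : (S.ok.xG g2aaabb b)⁻¹ ∈ S.Ugen K (g2aab + 1) :=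
      inv_mem (S.xG_mem_Ugen (by decide +kernel) (by decide +kernel) b)
    rw [← eq_inv_of_mul_eq_one_left h] at hm'
    exact S.xG_inf_Ugen (by decide +kernel) (by decide +kernel) hm'
  refine bad_of_pair (p := 3) Nat.prime_three (by norm_num) (x := ⟨_, ree_centre_mem he0 (1 : K)⟩)
    (y := ⟨_, ree_centre_mem he0 w⟩) ?_ ?_ ?_ ?_ ?_
  · exact Subtype.ext ((((hsame _ _ _).mul_right (hcomm _ _)).mul_left
      (((hcomm _ _).symm).mul_right (hsame _ _ _))).eq)
  · exact Subtype.ext (by rw [SubgroupClass.coe_pow, hc3]; rfl)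
  · exact Subtype.ext (by rw [SubgroupClass.coe_pow, hc3]; rfl)
  · intro h
    have h' := key _ _ (congrArg Subtype.val h : S.ok.xG g2aab ((1 : K) ^ e) * S.ok.xG g2aaabb 1 = 1)
    rw [one_pow] at h'
    exact one_ne_zero h'
  · intro k _ h
    have h' : S.ok.xG g2aab (w ^ e) * S.ok.xG g2aaabb w = S.ok.xG g2aab (k : K) * S.ok.xG g2aaabb (k : K) := by
      have h0 : S.ok.xG g2aab (w ^ e) * S.ok.xG g2aaabb w =
          (S.ok.xG g2aab ((1 : K) ^ e) * S.ok.xG g2aaabb 1) ^ k := congrArg Subtype.val h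
      rwa [(hcomm _ _).mul_pow, hpow, hpow, one_pow, mul_one] at h0
    have h2 : S.ok.xG g2aab (w ^ e - (k : K)) * S.ok.xG g2aaabb (w - (k : K)) = 1 := by
      rw [sub_eq_add_neg, sub_eq_add_neg, ← S.ok.xG_mul, ← S.ok.xG_mul, mul_assoc,
        ← mul_assoc (S.ok.xG g2aab (-(k : K))), (hcomm _ _).eq, mul_assoc, ← mul_assoc, h',
        ← S.ok.xG_inv, ← S.ok.xG_inv]
      rw [mul_assoc, ← mul_assoc (S.ok.xG g2aaabb (k : K)), ((hcomm _ _).inv_left.symm).eq, mul_assoc,
        mul_inv_cancel, mul_one, mul_inv_cancel]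
    have hwk : (k : K) ^ e = (k : K) := by
      rw [he, ← iterateFrobenius_def]
      exact map_natCast (iterateFrobenius K 3 m) k
    have h3 := sub_eq_zero.1 (key _ _ h2)
    rw [← hwk] at h3
    exact hw k (iterateFrobenius_inj K 3 m (by rw [iterateFrobenius_def, iterateFrobenius_def, ← he]; exact h3.symm))

theorem ree_cases {S : Type*} [Group S] [Finite S] (h : Cfsg.Lie.IsoRee S) : Bad S := by
  obtain ⟨K, iK, iKt, m, hm, hK, ⟨e⟩⟩ := h
  exact (bad_twistedG2 (K := K) hm hK).of_equiv e.symm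

theorem bad_twistedF4 [CharP K 2] {e : ℕ} (he : 0 < e) : Bad ↥(twistedF4 K e) := by
  let i : ZMod 2 →+* K := ZMod.castHom (dvd_refl 2) K
  let f := Matrix.GeneralLinearGroup.map (n := chevF4.Idx) i
  have hf : Function.Injective f := fun a b h => Units.ext (Matrix.ext fun r s => i.injective
    (congrArg (fun x : GL chevF4.Idx K => (x : Matrix chevF4.Idx chevF4.Idx K) r s) h))
  have hle : twistedF4 (ZMod 2) 1 ≤ (twistedF4 K e).comap f := by
    refine (Subgroup.closure_le _).2 ?_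
    rintro g ⟨w, hw, hg⟩
    refine Subgroup.subset_closure ⟨w.map (fun p => (p.1, i p.2)), ?_, ?_⟩
    · have hi : ∀ (t : ZMod 2) (n : ℕ), 0 < n → i t ^ n = i t := by
        intro t n hn
        have ht : t = 0 ∨ t = 1 := by revert t; decide
        rcases ht with rfl | rfl <;> simp [zero_pow hn.ne']
      have hi' : ∀ (t : ZMod 2) (n : ℕ), 0 < n → t ^ n = t := by
        intro t n hn
        have ht : t = 0 ∨ t = 1 := by revert t; decide
        rcases ht with rfl | rfl <;> simp [zero_pow hn.ne']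
      rcases hw with ⟨t, hw⟩ | ⟨t, u, hw⟩
      · refine Or.inl ⟨i t, ?_⟩
        rcases hw with rfl | rfl
        · left; simp [f4PairWord, hi t e he, hi' t 1]
        · right; simp [f4PairWord, hi t e he, hi' t 1]
      · refine Or.inr ⟨i t, i u, ?_⟩
        rcases hw with rfl | rfl
        · left; simp [b2ClassWord, hi t e he, hi t (e + 1) (by omega), hi u (2 * e) (by omega),
            hi' t 2, hi' u 2]
        · right; simp [b2ClassWord, hi t e he, hi t (e + 1) (by omega), hi u (2 * e) (by omega),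
            hi' t 2, hi' u 2]
    · show (g : Matrix chevF4.Idx chevF4.Idx (ZMod 2)).map i = _
      rw [hg, ChevalleyDatum.wordMat, ChevalleyDatum.wordMat, ← RingHom.mapMatrix_apply, map_list_prod,
        List.map_map, List.map_map]
      exact congrArg List.prod (List.map_congr_left fun p _ => Ok.map_x chevF4 i p.1 p.2)
  let ι : ↥(twistedF4 (ZMod 2) 1) →* ↥(twistedF4 K e) :=
    (f.comp (twistedF4 (ZMod 2) 1).subtype).codRestrict _ fun g => hle g.2
  have hι : Function.Injective ι := fun a b h => Subtype.ext (hf (congrArg Subtype.val h))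
  exact (bad_Tits.of_injective (commutator ↥(twistedF4 (ZMod 2) 1)).subtype Subtype.val_injective).of_injective ι hι

theorem twistedF4_cases {S : Type*} [Group S] [Finite S] (h : Cfsg.Lie.Iso2F4 S) : Bad S := by
  obtain ⟨K, iK, iKt, m, hm, hK, ⟨e⟩⟩ := h
  obtain ⟨p, hcp⟩ := CharP.exists K
  haveI := hcp
  have hp : p.Prime := CharP.char_is_prime K p
  haveI := Fact.mk hp
  have hp2 : p = 2 := by
    obtain ⟨n, -, hn⟩ := FiniteField.card K p
    have h3 : p ∣ 2 ^ (2 * m + 1) := hK ▸ hn ▸ dvd_pow_self p n.ne_zero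
    exact (Nat.prime_dvd_prime_iff_eq hp Nat.prime_two).1 (hp.dvd_of_dvd_pow h3)
  subst hp2
  exact (bad_twistedF4 (K := K) (e := 2 ^ m) (by positivity)).of_equiv e.symm

end Cfsg.Lib.CyclicOdd
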