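import Cfsg.Agent.CyclicOdd.Blocks
import Cfsg.Agent.Classical.Symp.Matrix
import Cfsg.Prelude.Def_Classical

/-!
The projective symplectic groups have a non-cyclic odd Sylow subgroup.
-/

set_option autoImplicit false
set_option linter.style.haveILetI false
set_option linter.unusedSectionVars false

open Matrix

namespace Cfsg.Lib.CyclicOdd

/-- An element of order three on the first hyperbolic pair. -/
def spX : Matrix (Fin 2 ⊕ Fin 2) (Fin 2 ⊕ Fin 2) ℤ :=
  fromBlocks !![0, 0; 0, 1] !![1, 0; 0, 0] !![-1, 0; 0, 0] !![-1, 0; 0, 1]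

/-- An element of order three on the second hyperbolic pair. -/
def spY : Matrix (Fin 2 ⊕ Fin 2) (Fin 2 ⊕ Fin 2) ℤ :=
  fromBlocks !![1, 0; 0, 0] !![0, 0; 0, 1] !![0, 0; 0, -1] !![1, 0; 0, -1]

/-- The two halves of the indices. -/
def spIdx (r : ℕ) : (Fin 2 ⊕ Fin 2) ⊕ (Fin r ⊕ Fin r) ≃ Fin (2 + r) ⊕ Fin (2 + r) :=
  (Equiv.sumSumSumComm _ _ _ _).trans (Equiv.sumCongr finSumFinEquiv finSumFinEquiv)

variable {F : Type} [Field F]

theorem J_spIdx (r : ℕ) : Matrix.J (Fin (2 + r)) F =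
    Matrix.reindex (spIdx r) (spIdx r) (fromBlocks (Matrix.J (Fin 2) F) 0 0 (Matrix.J (Fin r) F)) := by
  rw [← (Matrix.reindex (spIdx r) (spIdx r)).symm_apply_eq]
  ext i j
  rcases i with (i | i) | (i | i) <;> rcases j with (j | j) | (j | j) <;>
    simp [spIdx, Matrix.J, Matrix.one_apply, finSumFinEquiv, Fin.ext_iff] <;> omega

theorem mem_of_int (r : ℕ) {A : Matrix (Fin 2 ⊕ Fin 2) (Fin 2 ⊕ Fin 2) ℤ}
    (hA : A * Matrix.J (Fin 2) ℤ * Aᵀ = Matrix.J (Fin 2) ℤ) :
    blockEmb (spIdx r) (castM F A) ∈ Matrix.symplecticGroup (Fin (2 + r)) F := by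
  have hJ : castM F (Matrix.J (Fin 2) ℤ) = Matrix.J (Fin 2) F := by
    ext i j
    rcases i with i | i <;> rcases j with j | j <;>
      simp [castM_apply, Matrix.J, Matrix.one_apply] <;> split_ifs <;> simp
  have hA' : castM F A * Matrix.J (Fin 2) F * (castM F A)ᵀ = Matrix.J (Fin 2) F := by
    have h := congrArg (castM F) hA
    rw [map_mul, map_mul, hJ] at h
    exact h
  rw [SymplecticGroup.mem_iff, J_spIdx, blockEmb_apply, Matrix.reindex_apply, Matrix.reindex_apply,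
    Matrix.transpose_submatrix, Matrix.submatrix_mul_equiv, Matrix.submatrix_mul_equiv, fromBlocks_transpose,
    fromBlocks_multiply, fromBlocks_multiply]
  simp [hA']

theorem bad_psp [Fintype F] {m : ℕ} (hm : 2 ≤ m) : Bad (Cfsg.PSp m F) := by
  classical
  obtain ⟨r, rfl⟩ : ∃ r, m = 2 + r := ⟨m - 2, by omega⟩
  haveI := Cfsg.Lib.Classical.nontrivial_sympSpace (m := 2 + r) (F := F) (by omega)
  refine bad_center_quotient (Matrix.symplecticGroup (Fin (2 + r)) F).subtype Subtype.val_injective ?_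
    (p := 3) Nat.prime_three (by norm_num)
    (x := ⟨_, mem_of_int (F := F) r (A := spX) (by decide)⟩)
    (y := ⟨_, mem_of_int (F := F) r (A := spY) (by decide)⟩) (X := blockEmb (spIdx r) (castM F spX)) (Y := blockEmb (spIdx r) (castM F spY)) rfl rfl (c := 1) ?_ ?_ ?_ ?_ ?_
  · intro z hz
    have hz' : Cfsg.Lib.Classical.sympEquiv (2 + r) F z ∈
        Subgroup.center (Cfsg.Lib.Classical.BilinIsom (Cfsg.Lib.Classical.sympBilin (2 + r) F)) := by
      rw [Subgroup.mem_center_iff]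
      intro g
      obtain ⟨g, rfl⟩ := (Cfsg.Lib.Classical.sympEquiv (2 + r) F).surjective g
      rw [← map_mul, ← map_mul, Subgroup.mem_center_iff.1 hz g]
    obtain ⟨a, -, ha⟩ := (Cfsg.Lib.Classical.mem_center_bilinIsom_iff
      (Cfsg.Lib.Classical.sympBilin_isAlt (2 + r) F) (Cfsg.Lib.Classical.sympBilin_nondegenerate (2 + r) F)).1 hz'
    refine ⟨a, Matrix.ext_of_mulVec_single fun j => ?_⟩
    show (z : Matrix (Fin (2 + r) ⊕ Fin (2 + r)) (Fin (2 + r) ⊕ Fin (2 + r)) F) *ᵥ _ = _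
    rw [← Cfsg.Lib.Classical.sympEquiv_apply, ha, Matrix.smul_mulVec, Matrix.one_mulVec]
  · rw [one_smul, ← map_mul, ← map_mul, ← map_mul, ← map_mul, show spX * spY = spY * spX by decide]
  · rw [← map_pow, ← map_pow, show spX ^ 3 = 1 by decide, map_one, map_one]
  · rw [← map_pow, ← map_pow, show spY ^ 3 = 1 by decide, map_one, map_one]
  · exact NonScalar.castM _ ⟨Sum.inl 0, Sum.inr 0, by decide, Or.inl (by decide)⟩
  · intro k hk s
    exact castM_ne_smul (spIdx r) (Sum.inl 1) (Sum.inr 1) (by interval_cases k <;> decide) (Or.inl (by decide)) s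

theorem psp_cases {S : Type*} [Group S] [Finite S] (h : Cfsg.IsPSp S) : Bad S := by
  obtain ⟨F, iF, iFt, m, hm, -, ⟨e⟩⟩ := h
  exact (bad_psp (F := F) hm).of_equiv e.symm

end Cfsg.Lib.CyclicOdd
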