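import Cfsg.Agent.CyclicOdd.RootHoms
import Cfsg.Prelude.Def_LieTwisted

/-!
The groups `³D₄(q)` have a non-cyclic odd Sylow subgroup.
-/

set_option autoImplicit false
set_option linter.style.haveILetI false
set_option linter.unusedSectionVars false

open Cfsg.Lie Cfsg.Lib.Chev

namespace Cfsg.Lib.CyclicOdd

variable {K : Type} [Field K] [Fintype K] {q : ℕ}

theorem d4_single_mem {r : ℕ} (hr : r ∈ [d4p2, d4m2]) {t : K} (ht : t ^ q = t) :
    D4.struct.ok.xG r t ∈ twistedD4 K q := by
  have h := word_mem (F := K) D4.struct (W := d4Words K q) (w := [(r, t)]) (Or.inl ⟨t, ht, r, hr, rfl⟩)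
  simpa [twistedD4] using h

theorem d4_triple_mem {rs : ℕ × ℕ × ℕ} (hr : rs ∈ [(d4p1, d4p3, d4p4), (d4m1, d4m3, d4m4)]) :
    D4.struct.ok.xG rs.1 (1 : K) * (D4.struct.ok.xG rs.2.1 1 * D4.struct.ok.xG rs.2.2 1) ∈ twistedD4 K q := by
  have h := word_mem (F := K) D4.struct (W := d4Words K q) (w := [(rs.1, (1 : K)), (rs.2.1, 1), (rs.2.2, 1)])
    (Or.inr ⟨1, rs, hr, by rw [one_pow, one_pow]⟩)
  simpa [twistedD4, mul_assoc] using h

theorem bad_twistedD4 : Bad ↥(twistedD4 K q) := by
  classical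
  obtain ⟨p, hcp⟩ := CharP.exists K
  haveI := hcp
  have hp : p.Prime := CharP.char_is_prime K p
  let S := D4.struct
  by_cases hp2 : p = 2
  · subst hp2
    obtain ⟨φh, ih, -, -, eh, rh⟩ := exists_rootHom (F := K) S okNeg_D4 (r := 23) (by decide +kernel)
      (by decide +kernel)
    obtain ⟨φ1, i1, u1, l1, -, r1⟩ := exists_rootHom (F := K) S okNeg_D4 (r := 18) (by decide +kernel)
      (by decide +kernel)
    obtain ⟨φ3, i3, u3, l3, -, r3⟩ := exists_rootHom (F := K) S okNeg_D4 (r := 13) (by decide +kernel)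
      (by decide +kernel)
    obtain ⟨φ4, i4, u4, l4, -, r4⟩ := exists_rootHom (F := K) S okNeg_D4 (r := 12) (by decide +kernel)
      (by decide +kernel)
    have c13 := commute_rootHom S (r := 18) (s := 13) (by decide +kernel) r1 r3
    have c14 := commute_rootHom S (r := 18) (s := 12) (by decide +kernel) r1 r4
    have c34 := commute_rootHom S (r := 13) (s := 12) (by decide +kernel) r3 r4
    have ch1 := commute_rootHom S (r := 23) (s := 18) (by decide +kernel) rh r1
    have ch3 := commute_rootHom S (r := 23) (s := 13) (by decide +kernel) rh r3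
    have ch4 := commute_rootHom S (r := 23) (s := 12) (by decide +kernel) rh r4
    let ψ34 : Matrix.SpecialLinearGroup (Fin 2) K →* GL chevD4.Idx K :=
      MonoidHom.mk' (fun a => φ3 a * φ4 a) fun a b => by
        rw [map_mul, map_mul]
        exact Commute.mul_mul_mul_comm (c34 b a) (φ3 a) (φ4 b)
    let ψ : Matrix.SpecialLinearGroup (Fin 2) K →* GL chevD4.Idx K :=
      MonoidHom.mk' (fun a => φ1 a * ψ34 a) fun a b => by
        rw [map_mul, map_mul]
        exact Commute.mul_mul_mul_comm ((c13 b a).mul_right (c14 b a)) (φ1 a) (ψ34 b)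
    have hU : ψ (uM 1) ∈ twistedD4 K q := by
      show φ1 (uM 1) * (φ3 (uM 1) * φ4 (uM 1)) ∈ _
      rw [u1, u3, u4]
      exact d4_triple_mem (rs := (d4p1, d4p3, d4p4)) (by simp)
    have hL : ψ (lM 1) ∈ twistedD4 K q := by
      show φ1 (lM 1) * (φ3 (lM 1) * φ4 (lM 1)) ∈ _
      rw [l1, l3, l4, show chevD4.neg 18 = d4m1 by decide +kernel, show chevD4.neg 13 = d4m3 by decide +kernel,
        show chevD4.neg 12 = d4m4 by decide +kernel]
      exact d4_triple_mem (rs := (d4m1, d4m3, d4m4)) (by simp)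
    have hnG : ∀ (φ : Matrix.SpecialLinearGroup (Fin 2) K →* GL chevD4.Idx K) (r : ℕ),
        (∀ t, φ (uM t) = S.ok.xG r t) → (∀ t, φ (lM t) = S.ok.xG (chevD4.neg r) t) →
        φ (uM 1 * lM 1 * uM 1) = S.ok.nG r (1 : K) := by
      intro φ r h h'
      rw [map_mul, map_mul, h, h', Ok.nG, inv_one, CharTwo.neg_eq]
    set no : GL chevD4.Idx K := ψ (uM 1 * lM 1 * uM 1) with hno
    have hno' : no = S.ok.nG 18 (1 : K) * (S.ok.nG 13 1 * S.ok.nG 12 1) := by
      rw [← hnG φ1 18 u1 l1, ← hnG φ3 13 u3 l3, ← hnG φ4 12 u4 l4]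
      rfl
    set g : GL chevD4.Idx K := S.ok.nG 14 (1 : K) * no with hg
    have hgmem : g ∈ twistedD4 K q := by
      refine mul_mem ?_ ?_
      · show S.ok.xG 14 (1 : K) * S.ok.xG (chevD4.neg 14) (-(1 : K)⁻¹) * S.ok.xG 14 1 ∈ _
        rw [inv_one, CharTwo.neg_eq, show chevD4.neg 14 = d4m2 by decide +kernel]
        exact mul_mem (mul_mem (d4_single_mem (r := d4p2) (by simp) (one_pow q))
          (d4_single_mem (r := d4m2) (by simp) (one_pow q))) (d4_single_mem (r := d4p2) (by simp) (one_pow q))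
      · rw [hno, map_mul, map_mul]
        exact mul_mem (mul_mem hU hL) hU
    have hconj : ∀ s, s < chevD4.nroots →
        g * S.ok.xG s (1 : K) * g⁻¹ =
          S.ok.xG (D4.cert.w 1 (D4.cert.w 0 (D4.cert.w 2 (D4.cert.w 3 s)))) 1 := by
      intro s hs
      have h1 : ∀ (i s : ℕ), i < chevD4.rank → s < chevD4.nroots →
          S.ok.nG (chevD4.simple i) (1 : K) * S.ok.xG s 1 * (S.ok.nG (chevD4.simple i) (1 : K))⁻¹ =
            S.ok.xG (D4.cert.w i s) 1 := by
        intro i s hi hs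
        rw [S.ok.conj_nG_xG hi hs]
        have he : (D4.cert.eta i s : K) = 1 := by
          rcases mul_self_eq_one_iff.1 (Ok.eta_sq (F := K) D4.cert i s) with e | e
          · exact e
          · rw [e, CharTwo.neg_eq]
        rw [he, one_mul]
      have hl : ∀ i, i < 4 → i < chevD4.rank := fun i hi => by
        rw [show chevD4.rank = 4 by decide +kernel]; exact hi
      have e3 := h1 3 s (hl 3 (by norm_num)) hs
      have hs3 := S.ok.w_lt (hl 3 (by norm_num)) hs
      have e2 := h1 2 _ (hl 2 (by norm_num)) hs3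
      have hs2 := S.ok.w_lt (hl 2 (by norm_num)) hs3
      have e0 := h1 0 _ (hl 0 (by norm_num)) hs2
      have hs0 := S.ok.w_lt (hl 0 (by norm_num)) hs2
      have e1 := h1 1 _ (hl 1 (by norm_num)) hs0
      rw [show chevD4.simple 3 = 12 by decide +kernel] at e3
      rw [show chevD4.simple 2 = 13 by decide +kernel] at e2
      rw [show chevD4.simple 0 = 18 by decide +kernel] at e0
      rw [show chevD4.simple 1 = 14 by decide +kernel] at e1
      rw [← e1, ← e0, ← e2, ← e3, hg, hno']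
      group
    refine bad_of_homs φh ψ ih (injective_of_commute φ1 ψ34 ψ i1 (fun a b => (c13 a b).mul_right (c14 a b))
      fun a => rfl) (fun a b => (ch1 a b).mul_right ((ch3 a b).mul_right (ch4 a b))) ?_ ?_
    · rw [eh]
      have hneg := hconj 9 (by decide +kernel)
      have hpos := hconj 14 (by decide +kernel)
      rw [show D4.cert.w 1 (D4.cert.w 0 (D4.cert.w 2 (D4.cert.w 3 9))) = chevD4.neg 23 by decide +kernel] at hneg
      rw [show D4.cert.w 1 (D4.cert.w 0 (D4.cert.w 2 (D4.cert.w 3 14))) = 23 by decide +kernel] at hpos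
      rw [← hneg, ← hpos]
      exact mul_mem (mul_mem (mul_mem hgmem (d4_single_mem (r := d4m2) (by simp) (one_pow q))) (inv_mem hgmem))
        (mul_mem (mul_mem hgmem (d4_single_mem (r := d4p2) (by simp) (one_pow q))) (inv_mem hgmem))
    · rw [elThree, map_mul]
      exact mul_mem hL hU
  · haveI := Fact.mk hp
    have hpow : ∀ v (t : K) (k : ℕ), S.ok.xG v t ^ k = S.ok.xG v ((k : K) * t) := by
      intro v t k
      induction k with
      | zero => rw [pow_zero, Nat.cast_zero, zero_mul, S.xG_zero]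
      | succ k ih => rw [pow_succ, ih, S.ok.xG_mul, Nat.cast_succ, add_mul, one_mul]
    have hpp : ∀ v : ℕ, S.ok.xG v (1 : K) ^ p = 1 := fun v => by
      rw [hpow, CharP.cast_eq_zero, zero_mul, S.xG_zero]
    have c13 : Commute (S.ok.xG 18 (1 : K)) (S.ok.xG 13 1) := commute_of_okComm S (by decide +kernel) _ _
    have c14 : Commute (S.ok.xG 18 (1 : K)) (S.ok.xG 12 1) := commute_of_okComm S (by decide +kernel) _ _
    have c34 : Commute (S.ok.xG 13 (1 : K)) (S.ok.xG 12 1) := commute_of_okComm S (by decide +kernel) _ _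
    have hy1 : S.ok.xG 18 (1 : K) * (S.ok.xG 13 1 * S.ok.xG 12 1) ≠ 1 := by
      intro e
      rw [← mul_assoc] at e
      have e' : S.ok.xG 12 (1 : K) = (S.ok.xG 18 (1 : K) * S.ok.xG 13 1)⁻¹ :=
        eq_inv_of_mul_eq_one_right e
      have hm : (S.ok.xG 18 (1 : K) * S.ok.xG 13 1)⁻¹ ∈ S.Ugen K (12 + 1) :=
        inv_mem (mul_mem (S.xG_mem_Ugen (by norm_num) (by decide +kernel) (1 : K))
          (S.xG_mem_Ugen (by norm_num) (by decide +kernel) (1 : K)))
      rw [← e'] at hm
      exact one_ne_zero (S.xG_inf_Ugen (by decide +kernel) (by decide +kernel) hm)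
    refine bad_of_pair hp hp2 (x := ⟨_, d4_single_mem (K := K) (q := q) (r := d4m2) (by simp) (one_pow q)⟩)
      (y := ⟨_, d4_triple_mem (K := K) (q := q) (rs := (d4p1, d4p3, d4p4)) (by simp)⟩) ?_ ?_ ?_ ?_ ?_
    · exact Subtype.ext ((commute_of_okComm S (r := d4m2) (s := 18) (by decide +kernel) _ _).mul_right
        ((commute_of_okComm S (r := d4m2) (s := 13) (by decide +kernel) _ _).mul_right
          (commute_of_okComm S (r := d4m2) (s := 12) (by decide +kernel) _ _))).eq
    · exact Subtype.ext (by rw [SubgroupClass.coe_pow, hpp]; rfl)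
    · refine Subtype.ext ?_
      rw [SubgroupClass.coe_pow]
      show (S.ok.xG 18 (1 : K) * (S.ok.xG 13 1 * S.ok.xG 12 1)) ^ p = 1
      rw [(c13.mul_right c14).mul_pow, c34.mul_pow, hpp, hpp, hpp, one_mul, one_mul]
    · exact fun e => one_ne_zero (S.xG_eq_one (by decide +kernel) (congrArg Subtype.val e :
        S.ok.xG d4m2 (1 : K) = 1))
    · intro k _ e
      have e' : S.ok.xG 18 (1 : K) * (S.ok.xG 13 1 * S.ok.xG 12 1) = S.ok.xG d4m2 ((k : K) * 1) := by
        rw [← hpow]; exact congrArg Subtype.val e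
      have hm : S.ok.xG d4m2 ((k : K) * 1) ∈ chevD4.borelSubgroup K ⊓ chevD4.negUnipotent K :=
        Subgroup.mem_inf.2 ⟨e' ▸ mul_mem (S.B_le_of (S.xG_mem_U (by decide +kernel) (by decide +kernel) _))
          (mul_mem (S.B_le_of (S.xG_mem_U (by decide +kernel) (by decide +kernel) _))
            (S.B_le_of (S.xG_mem_U (by decide +kernel) (by decide +kernel) _))),
          Subgroup.subset_closure ⟨d4m2, _, S.isNeg_iff.2 (by decide +kernel), S.ok.val_xG _ _⟩⟩
      rw [S.B_inf_V okNeg_D4, Subgroup.mem_bot] at hm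
      exact hy1 (e'.trans hm)

theorem twistedD4_cases {S : Type*} [Group S] [Finite S] (h : Cfsg.Lie.Iso3D4 S) : Bad S := by
  obtain ⟨K, iK, iKt, q, -, -, ⟨e⟩⟩ := h
  exact (bad_twistedD4 (K := K) (q := q)).of_equiv e.symm

end Cfsg.Lib.CyclicOdd
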