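import Cfsg.Agent.CyclicOdd.RootHoms
import Cfsg.Prelude.Def_LieTwisted

/-!
The groups `²E₆(q)` have a non-cyclic odd Sylow subgroup.
-/

set_option autoImplicit false
set_option linter.style.haveILetI false
set_option linter.unusedSectionVars false

open Cfsg.Lie Cfsg.Lib.Chev

namespace Cfsg.Lib.CyclicOdd

variable {K : Type} [Field K] [Fintype K] {q : ℕ}

theorem e6_single_mem {r : ℕ} (hr : r ∈ [e6p2, e6m2, e6p4, e6m4]) {t : K} (ht : t ^ q = t) :
    E6.struct.ok.xG r t ∈ twistedE6 K q := by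
  have h := word_mem (F := K) E6.struct (W := e6Words K q) (w := [(r, t)]) (Or.inl ⟨t, ht, r, hr, rfl⟩)
  simpa [twistedE6] using h

theorem e6_pair_mem {rs : ℕ × ℕ} (hr : rs ∈ [(e6p1, e6p6), (e6m1, e6m6), (e6p3, e6p5), (e6m3, e6m5)]) :
    E6.struct.ok.xG rs.1 (1 : K) * E6.struct.ok.xG rs.2 1 ∈ twistedE6 K q := by
  have h := word_mem (F := K) E6.struct (W := e6Words K q) (w := [(rs.1, (1 : K)), (rs.2, 1)])
    (Or.inr ⟨1, rs, hr, by rw [one_pow]⟩)
  simpa [twistedE6] using h

theorem bad_twistedE6 : Bad ↥(twistedE6 K q) := by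
  classical
  obtain ⟨p, hcp⟩ := CharP.exists K
  haveI := hcp
  have hp : p.Prime := CharP.char_is_prime K p
  let S := E6.struct
  by_cases hp2 : p = 2
  · subst hp2
    obtain ⟨φ2, i2, -, -, e2, r2⟩ := exists_rootHom (F := K) S okNeg_E6 (r := 46) (by decide +kernel)
      (by decide +kernel)
    obtain ⟨φ1, i1, -, -, e1, r1⟩ := exists_rootHom (F := K) S okNeg_E6 (r := 56) (by decide +kernel)
      (by decide +kernel)
    obtain ⟨φ6, i6, -, -, e6, r6⟩ := exists_rootHom (F := K) S okNeg_E6 (r := 36) (by decide +kernel)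
      (by decide +kernel)
    have c16 := commute_rootHom S (r := 56) (s := 36) (by decide +kernel) r1 r6
    have c21 := commute_rootHom S (r := 46) (s := 56) (by decide +kernel) r2 r1
    have c26 := commute_rootHom S (r := 46) (s := 36) (by decide +kernel) r2 r6
    let ψ : Matrix.SpecialLinearGroup (Fin 2) K →* GL chevE6.Idx K :=
      MonoidHom.mk' (fun a => φ1 a * φ6 a) fun a b => by
        rw [map_mul, map_mul]
        exact Commute.mul_mul_mul_comm (c16 b a) (φ1 a) (φ6 b)
    refine bad_of_homs φ2 ψ i2 (injective_of_commute φ1 φ6 ψ i1 c16 fun a => rfl)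
      (fun a b => (c21 a b).mul_right (c26 a b)) ?_ ?_
    · rw [e2, show chevE6.neg 46 = e6m2 by decide +kernel]
      exact mul_mem (e6_single_mem (by simp) (one_pow q)) (e6_single_mem (by simp [e6p2]) (one_pow q))
    · show φ1 (elThree K) * φ6 (elThree K) ∈ _
      have c : Commute (S.ok.xG 56 (1 : K)) (S.ok.xG (chevE6.neg 36) 1) :=
        commute_of_okComm S (by decide +kernel) _ _
      rw [e1, e6, mul_assoc, ← mul_assoc (S.ok.xG 56 (1 : K)), c.eq, mul_assoc, ← mul_assoc (S.ok.xG (chevE6.neg 56) (1 : K))]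
      rw [show chevE6.neg 56 = e6m1 by decide +kernel, show chevE6.neg 36 = e6m6 by decide +kernel]
      exact mul_mem (e6_pair_mem (rs := (e6m1, e6m6)) (by simp)) (e6_pair_mem (rs := (e6p1, e6p6)) (by simp))
  · haveI := Fact.mk hp
    have hpow : ∀ v (t : K) (k : ℕ), S.ok.xG v t ^ k = S.ok.xG v ((k : K) * t) := by
      intro v t k
      induction k with
      | zero => rw [pow_zero, Nat.cast_zero, zero_mul, S.xG_zero]
      | succ k ih => rw [pow_succ, ih, S.ok.xG_mul, Nat.cast_succ, add_mul, one_mul]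
    have hpp : ∀ v : ℕ, S.ok.xG v (1 : K) ^ p = 1 := fun v => by
      rw [hpow, CharP.cast_eq_zero, zero_mul, S.xG_zero]
    have c16 : Commute (S.ok.xG 56 (1 : K)) (S.ok.xG 36 1) := commute_of_okComm S (by decide +kernel) _ _
    have hy1 : S.ok.xG 56 (1 : K) * S.ok.xG 36 1 ≠ 1 := by
      intro e
      rw [c16.eq, mul_eq_one_iff_eq_inv] at e
      have hm : (S.ok.xG 56 (1 : K))⁻¹ ∈ S.Ugen K (36 + 1) :=
        inv_mem (S.xG_mem_Ugen (by norm_num) (by decide +kernel) (1 : K))
      rw [← e] at hm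
      exact one_ne_zero (S.xG_inf_Ugen (by decide +kernel) (by decide +kernel) hm)
    refine bad_of_pair hp hp2 (x := ⟨_, e6_single_mem (K := K) (q := q) (r := e6m2) (by simp) (one_pow q)⟩)
      (y := ⟨_, e6_pair_mem (K := K) (q := q) (rs := (e6p1, e6p6)) (by simp)⟩) ?_ ?_ ?_ ?_ ?_
    · exact Subtype.ext ((commute_of_okComm S (r := e6m2) (s := 56) (by decide +kernel) _ _).mul_right
        (commute_of_okComm S (r := e6m2) (s := 36) (by decide +kernel) _ _)).eq
    · exact Subtype.ext (by rw [SubgroupClass.coe_pow, hpp]; rfl)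
    · refine Subtype.ext ?_
      rw [SubgroupClass.coe_pow]
      show (S.ok.xG 56 (1 : K) * S.ok.xG 36 1) ^ p = 1
      rw [c16.mul_pow, hpp, hpp, one_mul]
    · exact fun e => one_ne_zero (S.xG_eq_one (by decide +kernel) (congrArg Subtype.val e :
        S.ok.xG e6m2 (1 : K) = 1))
    · intro k _ e
      have e' : S.ok.xG 56 (1 : K) * S.ok.xG 36 1 = S.ok.xG e6m2 ((k : K) * 1) := by
        rw [← hpow]; exact congrArg Subtype.val e
      have hm : S.ok.xG e6m2 ((k : K) * 1) ∈ chevE6.borelSubgroup K ⊓ chevE6.negUnipotent K :=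
        Subgroup.mem_inf.2 ⟨e' ▸ mul_mem (S.B_le_of (S.xG_mem_U (by decide +kernel) (by decide +kernel) _))
          (S.B_le_of (S.xG_mem_U (by decide +kernel) (by decide +kernel) _)),
          Subgroup.subset_closure ⟨e6m2, _, S.isNeg_iff.2 (by decide +kernel), S.ok.val_xG _ _⟩⟩
      rw [S.B_inf_V okNeg_E6, Subgroup.mem_bot] at hm
      exact hy1 (e'.trans hm)

theorem twistedE6_cases {S : Type*} [Group S] [Finite S] (h : Cfsg.Lie.Iso2E6 S) : Bad S := by
  obtain ⟨K, iK, iKt, q, -, -, ⟨e⟩⟩ := h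
  exact (bad_twistedE6 (K := K) (q := q)).of_equiv e.symm

end Cfsg.Lib.CyclicOdd
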