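import Cfsg.Agent.CyclicOdd.Diagonal
import Cfsg.Agent.Known.UnitaryGU
import Cfsg.Agent.Classical.Misc.UnitarySingerOrder
import Cfsg.Prelude.Def_Classical

/-!
The projective special unitary groups have a non-cyclic odd Sylow subgroup.
-/

set_option autoImplicit false
set_option linter.style.haveILetI false
set_option linter.unusedSectionVars false

open Matrix

namespace Cfsg.Lib.CyclicOdd

open Cfsg.Lib.Classical

variable {F : Type} [Field F] [Fintype F] {q : ℕ}

theorem bad_psu_pair (hF : Fintype.card F = q ^ 2) {n : ℕ} (hn : 2 ≤ n) {p : ℕ} (hp : p.Prime) (hp2 : p ≠ 2)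
    {X Y : Matrix (Fin n) (Fin n) F} (hdX : X.det = 1) (hdY : Y.det = 1)
    (huX : (X.map (powConj hF))ᵀ * X = 1) (huY : (Y.map (powConj hF))ᵀ * Y = 1)
    {c : F} (hXY : X * Y = c • (Y * X)) (hX : X ^ p = 1) (hY : Y ^ p = 1)
    (hX1 : NonScalar X) (hYX : ∀ k : ℕ, k < p → ∀ r : F, Y ≠ r • X ^ k) :
    Bad (Cfsg.PSU n F q) := by
  refine bad_center_quotient ((Cfsg.slToMat n F).comp (Cfsg.SU n F q).subtype)
    (fun a b h => Subtype.ext (Subtype.ext h)) ?_ hp hp2
    (x := ⟨⟨X, hdX⟩, (Cfsg.Lib.UnitaryConj.mem_SU hF _).2 huX⟩)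
    (y := ⟨⟨Y, hdY⟩, (Cfsg.Lib.UnitaryConj.mem_SU hF _).2 huY⟩) (X := X) (Y := Y) rfl rfl hXY hX hY hX1 hYX
  intro z hz
  obtain ⟨a, -, ha⟩ := (Cfsg.Lib.UnitarySingerOrder.mem_center_iff hF hn z).1 hz
  exact ⟨a, ha⟩

theorem diag_unitary (hF : Fintype.card F = q ^ 2) {n : ℕ} {d : Fin n → F} (h : ∀ i, d i ^ (q + 1) = 1) :
    ((diagonal d).map (powConj hF))ᵀ * diagonal d = 1 := by
  rw [diagonal_map (map_zero _), diagonal_transpose, diagonal_mul_diagonal, ← diagonal_one]
  refine congrArg diagonal (funext fun i => ?_)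
  rw [powConj_apply hF, ← pow_succ, h i]

theorem perm3_unitary (hF : Fintype.card F = q ^ 2) :
    ((perm3 : Matrix (Fin 3) (Fin 3) F).map (powConj hF))ᵀ * perm3 = 1 := by
  ext i j
  fin_cases i <;> fin_cases j <;> simp [perm3, Matrix.mul_apply, Fin.sum_univ_three]

/-- Elements of the norm-one torus, for `q` even. -/
theorem bad_psu_even (hF : Fintype.card F = q ^ 2) {n : ℕ} (hn : 3 ≤ n) (h32 : ¬ (n = 3 ∧ q = 2))
    (hq : Even q) : Bad (Cfsg.PSU n F q) := by
  classical
  obtain ⟨j, rfl⟩ := hq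
  have hq2 : 2 ≤ j + j := Cfsg.Lib.UnitarySingerOrder.q_two_le hF
  have hcard : Fintype.card F - 1 = (j + j + 1) * (j + j - 1) := by
    rw [hF]
    have := Nat.sq_sub_sq (j + j) 1
    simpa using this
  by_cases h3 : n = 3 ∧ 3 ∣ j + j + 1
  · obtain ⟨rfl, h3⟩ := h3
    obtain ⟨w, hw, -, hw1⟩ := exists_root_of_dvd (F := F) Nat.prime_three (hcard ▸ dvd_mul_of_dvd_left h3 _)
    have hwq : w ^ (j + j + 1) = 1 := by
      obtain ⟨l, hl⟩ := h3
      rw [hl, pow_mul, hw, one_pow]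
    refine bad_psu_pair hF (by norm_num) (p := 3) Nat.prime_three (by norm_num) (X := perm3)
      (Y := diagonal ![1, w, w ^ 2]) det_perm3 ?_ (perm3_unitary hF) (diag_unitary hF fun i => ?_)
      (perm3_diag hw) perm3_cube (diagonal_pow_eq_one (diag3_pow hw)) perm3_nonScalar
      (fun k hk r => perm3_pair hw1 k hk r)
    · rw [det_diagonal, Fin.prod_univ_three]
      simp
      linear_combination hw
    · fin_cases i <;> simp [hwq, ← pow_mul]
      rw [mul_comm, pow_mul, hwq, one_pow]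
  · obtain ⟨r, hr, hrd⟩ := Nat.exists_prime_and_dvd (n := j + j + 1) (by omega)
    have hr2 : r ≠ 2 := by rintro rfl; omega
    obtain ⟨a, har, ha0, ha1⟩ := exists_root_of_dvd (F := F) hr (hcard ▸ dvd_mul_of_dvd_left hrd _)
    have hd : ∀ s : ℕ, ∀ i : Fin n, dvec n s a i ^ (j + j + 1) = 1 := fun s i => by
      obtain ⟨l, hl⟩ := hrd
      rw [hl, pow_mul, dvec_pow har, one_pow]
    refine bad_psu_pair hF (by omega) hr hr2 (X := diagonal (dvec n 0 a)) (Y := diagonal (dvec n 1 a))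
      (by rw [det_diagonal]; exact prod_dvec (by omega) ha0)
      (by rw [det_diagonal]; exact prod_dvec (by omega) ha0) (diag_unitary hF (hd 0)) (diag_unitary hF (hd 1))
      (diagonal_commute _ _) (diagonal_pow_eq_one (dvec_pow har)) (diagonal_pow_eq_one (dvec_pow har))
      (dvec_nonScalar hn ha1) (fun k _ s => dvec_pair hn ha0 ha1 (fun hn3 h => ?_) k s)
    haveI := Fact.mk hr
    have := orderOf_dvd_of_pow_eq_one h
    rw [orderOf_eq_prime har ha1] at this
    exact h3 ⟨hn3, ((Nat.prime_dvd_prime_iff_eq hr Nat.prime_three).1 this) ▸ hrd⟩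

theorem exists_norm_neg_one (hF : Fintype.card F = q ^ 2) (hq : Odd q) :
    (∃ a : F, a ^ (q + 1) = -1) ∧ ∃ c : F, c ≠ 0 ∧ c ^ q = -c := by
  classical
  obtain ⟨g, hg⟩ := IsCyclic.exists_ofOrder_eq_natCard (α := Fˣ)
  rw [Nat.card_units, Nat.card_eq_fintype_card, hF] at hg
  obtain ⟨j, rfl⟩ := hq
  have hj : 0 < j := by
    have := Cfsg.Lib.UnitarySingerOrder.q_two_le hF
    omega
  set N := (j + 1) * (2 * j) with hN
  have h2N : (2 * j + 1) ^ 2 - 1 = 2 * N := by
    rw [hN]; apply Nat.sub_eq_of_eq_add; ring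
  rw [h2N] at hg
  have hNpos : 0 < N := by rw [hN]; positivity
  have hgN : ((g : F)) ^ N = -1 := by
    have h1 : ((g : F) ^ N) * ((g : F) ^ N) = 1 := by
      rw [← pow_add, ← two_mul, ← hg, ← Units.val_pow_eq_pow_val, pow_orderOf_eq_one, Units.val_one]
    rcases mul_self_eq_one_iff.1 h1 with h | h
    · exfalso
      have h' : g ^ N = 1 := Units.ext (by rw [Units.val_pow_eq_pow_val, h, Units.val_one])
      have := Nat.le_of_dvd hNpos (orderOf_dvd_of_pow_eq_one h')
      omega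
    · exact h
  refine ⟨⟨(g : F) ^ j, ?_⟩, (g : F) ^ (j + 1), pow_ne_zero _ g.ne_zero, ?_⟩
  · rw [← pow_mul, show j * (2 * j + 1 + 1) = N by rw [hN]; ring, hgN]
  · rw [← pow_mul, show (j + 1) * (2 * j + 1) = N + (j + 1) by rw [hN]; ring, pow_add, hgN, neg_one_mul]

/-- The two unipotent elements, with `a * s = -1`, in the plane of the first two vectors. -/
def uP (a s d : F) : Matrix (Fin 3) (Fin 3) F := !![d, d * s, 0; d * a, -d, 0; 0, 0, 0]

/-- The second nilpotent part. -/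
def uN (a s c : F) : Matrix (Fin 3) (Fin 3) F := !![c, c * s, -1; c * a, -c, -a; 1, s, 0]

theorem u_products {a s : F} (has : a * s = -1) (c d : F) :
    uP a s d * uP a s d = 0 ∧ uP a s d * uN a s c = 0 ∧ uN a s c * uP a s d = 0 ∧
      uN a s c * uN a s c * uN a s c = 0 := by
  refine ⟨?_, ?_, ?_, ?_⟩ <;> ext i j <;> fin_cases i <;> fin_cases j <;>
    simp [uP, uN, Matrix.mul_apply, Fin.sum_univ_three] <;> grind

theorem one_add_pow_of_sq_zero {n : ℕ} {P : Matrix (Fin n) (Fin n) F} (h : P * P = 0) (k : ℕ) :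
    (1 + P) ^ k = 1 + k • P := by
  induction k with
  | zero => simp
  | succ k ih => rw [pow_succ, ih, add_mul, one_mul, mul_add, mul_one, smul_mul_assoc, h, smul_zero, add_zero,
      succ_nsmul]; abel

theorem unipotent_pow_det {n : ℕ} {p : ℕ} [Fact p.Prime] [CharP F p] (hp : 3 ≤ p) {N : Matrix (Fin n) (Fin n) F}
    (h : N ^ 3 = 0) : (1 + N) ^ p = 1 ∧ (1 + N).det = 1 := by
  rcases n.eq_zero_or_pos with rfl | hn
  · exact ⟨Subsingleton.elim _ _, by simp⟩
  haveI : Nonempty (Fin n) := ⟨⟨0, hn⟩⟩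
  have h1 : (1 + N) ^ p = 1 := by
    rw [add_pow_char_of_commute (p := p) (Commute.one_left N), one_pow, pow_eq_zero_of_le hp h, add_zero]
  refine ⟨h1, ?_⟩
  have h2 : ((1 + N).det - 1) ^ p = 0 := by
    rw [sub_pow_char, one_pow, ← det_pow, h1, det_one, sub_self]
  exact sub_eq_zero.1 (pow_eq_zero_iff (by omega) |>.1 h2)

theorem blockEmb_unitary (hF : Fintype.card F = q ^ 2) {n r : ℕ} (e : Fin 3 ⊕ Fin r ≃ Fin n)
    {A : Matrix (Fin 3) (Fin 3) F} (h : (A.map (powConj hF))ᵀ * A = 1) :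
    ((blockEmb e A).map (powConj hF))ᵀ * blockEmb e A = 1 := by
  have h' : ((blockEmb e A).map (powConj hF))ᵀ = blockEmb e (A.map (powConj hF))ᵀ := by
    ext i j
    obtain ⟨i, rfl⟩ := e.surjective i
    obtain ⟨j, rfl⟩ := e.surjective j
    rcases i with i | i <;> rcases j with j | j <;>
      simp [blockEmb_apply, Matrix.one_apply, eq_comm, apply_ite (powConj hF)]
  rw [h', ← map_mul, h, map_one]

/-- Two commuting root elements, for `q` odd. -/
theorem bad_psu_odd (hF : Fintype.card F = q ^ 2) {n : ℕ} (hn : 3 ≤ n) (hq : Odd q) :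
    Bad (Cfsg.PSU n F q) := by
  classical
  obtain ⟨p, hcp⟩ := CharP.exists F
  haveI := hcp
  have hp : p.Prime := CharP.char_is_prime F p
  haveI := Fact.mk hp
  have hodd : Odd (Fintype.card F) := hF ▸ hq.pow
  have hp2 : p ≠ 2 := by
    rintro rfl
    have := FiniteField.even_card_iff_char_two.mp (ringChar.eq F 2)
    have := Nat.odd_iff.mp hodd
    omega
  have hp3 : 3 ≤ p := by have := hp.two_le; omega
  have h2 : (2 : F) ≠ 0 := by
    intro h
    have := (CharP.cast_eq_zero_iff F p 2).1 (by simpa using h)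
    exact hp2 ((Nat.prime_dvd_prime_iff_eq hp Nat.prime_two).1 this)
  obtain ⟨⟨a, ha⟩, d, hd0, hd⟩ := exists_norm_neg_one hF hq
  set σ := powConj hF with hσ
  set s := σ a with hs
  have has : a * s = -1 := by rw [hs, hσ, powConj_apply hF, ← pow_succ', ha]
  have hss : σ s = a := (powConj_isConj hF).invol a
  have hsd : σ d = -d := by rw [hσ, powConj_apply hF, hd]
  set c : F := -(2 : F)⁻¹ with hc
  have hsc : σ c = c := by rw [hc, map_neg, map_inv₀, map_ofNat]
  have hc1 : c + c = -1 := by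
    rw [hc]; field_simp; ring
  obtain ⟨hPP, hPN, hNP, hNNN⟩ := u_products has c d
  have hP : (1 + uP a s d) ^ p = 1 ∧ (1 + uP a s d).det = 1 :=
    unipotent_pow_det hp3 (by rw [pow_succ, pow_two, hPP, zero_mul])
  have hN : (1 + uN a s c) ^ p = 1 ∧ (1 + uN a s c).det = 1 :=
    unipotent_pow_det hp3 (by rw [pow_succ, pow_two, hNNN])
  have huP : ((1 + uP a s d).map σ)ᵀ * (1 + uP a s d) = 1 := by
    ext i j
    fin_cases i <;> fin_cases j <;>
      simp [uP, Matrix.mul_apply, Fin.sum_univ_three, hsd, hss, ← hs] <;> grind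
  have huN : ((1 + uN a s c).map σ)ᵀ * (1 + uN a s c) = 1 := by
    ext i j
    fin_cases i <;> fin_cases j <;>
      simp [uN, Matrix.mul_apply, Fin.sum_univ_three, hsc, hss, ← hs] <;> grind
  let e : Fin 3 ⊕ Fin (n - 3) ≃ Fin n := finSumFinEquiv.trans (finCongr (by omega))
  refine bad_psu_pair hF (by omega) hp hp2 (X := blockEmb e (1 + uP a s d)) (Y := blockEmb e (1 + uN a s c))
    (c := 1) (by rw [det_blockEmb, hP.2]) (by rw [det_blockEmb, hN.2]) (blockEmb_unitary hF e huP)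
    (blockEmb_unitary hF e huN) ?_ (by rw [← map_pow, hP.1, map_one]) (by rw [← map_pow, hN.1, map_one]) ?_ ?_
  · rw [one_smul, ← map_mul, ← map_mul]
    congr 1
    rw [mul_add, mul_one, add_mul, one_mul, hPN, mul_add, mul_one, add_mul, one_mul, hNP]
    abel
  · refine NonScalar.blockEmb_of_offDiag e (i := 0) (j := 1) (by decide) ?_
    have hs0 : s ≠ 0 := fun h => by simp [h] at has
    simpa [uP] using mul_ne_zero hd0 hs0
  · intro k _ r h
    rw [← map_pow, one_add_pow_of_sq_zero hPP] at h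
    have h1 := congrFun (congrFun h (e (Sum.inl 2))) (e (Sum.inl 0))
    rw [Matrix.smul_apply, blockEmb_inl, blockEmb_inl] at h1
    simp [uN, uP] at h1

theorem psu_cases {S : Type*} [Group S] [Finite S] (h : Cfsg.IsPSU S) : Bad S := by
  obtain ⟨F, iF, iFt, n, q, hF, hn, h32, ⟨e⟩⟩ := h
  rcases Nat.even_or_odd q with hq | hq
  · exact (bad_psu_even hF hn h32 hq).of_equiv e.symm
  · exact (bad_psu_odd hF hn hq).of_equiv e.symm

end Cfsg.Lib.CyclicOdd
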