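import Cfsg.Agent.CyclicOdd.Alternating
import Cfsg.Agent.CyclicOdd.Linear
import Cfsg.Agent.CyclicOdd.Symplectic
import Cfsg.Agent.CyclicOdd.Unitary
import Cfsg.Agent.CyclicOdd.Orthogonal
import Cfsg.Agent.CyclicOdd.Chevalley
import Cfsg.Agent.CyclicOdd.TwistedE6
import Cfsg.Agent.CyclicOdd.TwistedD4
import Cfsg.Agent.CyclicOdd.Ree
import Cfsg.Agent.CyclicOdd.Spor.All
import Cfsg.Prelude.Def_Classification2

/-!
The known simple groups all of whose Sylow subgroups for odd primes are cyclic.
-/

set_option autoImplicit false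
set_option linter.style.haveILetI false
set_option linter.unusedSectionVars false

namespace Cfsg.Lib.CyclicOdd

universe u

/-- A known simple group with cyclic Sylow subgroups for all odd primes is `L₂(2^n)`, a Suzuki group,
`L₂(p)` or the first Janko group. -/
theorem list_of_known {S : Type u} [Group S] [Finite S] [IsSimpleGroup S] (hna : ¬ IsMulCommutative S)
    (hK : Cfsg.IsKnownSimple' S) (hc : ∀ p : ℕ, p.Prime → p ≠ 2 → ∀ P : Sylow p S, IsCyclic P) :
    (∃ (F : Type) (_ : Field F) (_ : Fintype F), CharP F 2 ∧
      Nonempty (S ≃* Matrix.ProjectiveSpecialLinearGroup (Fin 2) F)) ∨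
    Cfsg.Lie.IsoSuzuki S ∨
    (∃ (F : Type) (_ : Field F) (_ : Fintype F), (Fintype.card F).Prime ∧ Fintype.card F ≠ 2 ∧
      Nonempty (S ≃* Matrix.ProjectiveSpecialLinearGroup (Fin 2) F)) ∨
    Cfsg.Spor.IsoJ1 S := by
  rcases hK with h | h | h | h | h | h | h | h | h | h
  · haveI : Fact (Nat.card S).Prime := ⟨h⟩
    haveI : IsCyclic S := isCyclic_of_prime_card rfl
    exact absurd ⟨⟨IsCyclic.commGroup.mul_comm⟩⟩ hna
  · rcases alternating_cases h with h | h
    · exact Or.inl h
    · exact (h.false hc).elim
  · rcases psl_cases h with h | h | h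
    · exact Or.inl h
    · exact Or.inr (Or.inr (Or.inl h))
    · exact (h.false hc).elim
  · exact ((psp_cases h).false hc).elim
  · exact ((psu_cases h).false hc).elim
  · exact ((pomega_odd_cases h).false hc).elim
  · exact ((pomega_plus_cases h).false hc).elim
  · exact ((pomega_minus_cases h).false hc).elim
  · rcases h with h | h | h | h | h | h | h | h | h | h | h
    · exact ((chevG2_cases h).false hc).elim
    · exact ((chevF4_cases h).false hc).elim
    · exact ((chevE6_cases h).false hc).elim
    · exact ((chevE7_cases h).false hc).elim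
    · exact ((chevE8_cases h).false hc).elim
    · exact ((twistedE6_cases h).false hc).elim
    · exact ((twistedD4_cases h).false hc).elim
    · exact Or.inr (Or.inl h)
    · exact ((ree_cases h).false hc).elim
    · exact ((twistedF4_cases h).false hc).elim
    · exact Or.inr (Or.inr (Or.inr (sporadic hna (Or.inr h) hc)))
  · exact Or.inr (Or.inr (Or.inr (sporadic hna (Or.inl h) hc)))

end Cfsg.Lib.CyclicOdd
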